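import Groth.Prelude.Def_AlphaP
import Mathlib.Algebra.DualNumber
import Mathlib.Algebra.Polynomial.Taylor
import Mathlib.RingTheory.AdjoinRoot

/-!
# Functions on infinitesimal points
-/

set_option autoImplicit false

universe u

open Polynomial DualNumber TrivSqZeroExt

namespace Groth.Agent.CentralPair

variable {k : Type u} [Field k]

/-- A natural function of two square-zero elements which is constant on the axes is symmetric. -/
theorem sq_zero_expansion (f : ∀ (C : Type u) [CommRing C] [Algebra k C] (e d : C), e * e = 0 → d * d = 0 → C)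
    (hnat : ∀ (C D : Type u) [CommRing C] [Algebra k C] [CommRing D] [Algebra k D] (θ : C →ₐ[k] D) (e d : C)
      (he : e * e = 0) (hd : d * d = 0) (he' : θ e * θ e = 0) (hd' : θ d * θ d = 0),
      θ (f C e d he hd) = f D (θ e) (θ d) he' hd')
    (l : k)
    (h0l : ∀ (C : Type u) [CommRing C] [Algebra k C] (d : C) (hd : d * d = 0),
      f C 0 d (mul_zero 0) hd = algebraMap k C l)
    (h0r : ∀ (C : Type u) [CommRing C] [Algebra k C] (e : C) (he : e * e = 0),
      f C e 0 he (mul_zero 0) = algebraMap k C l) :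
    ∃ c : k, ∀ (C : Type u) [CommRing C] [Algebra k C] (e d : C) (he : e * e = 0) (hd : d * d = 0),
      f C e d he hd = algebraMap k C l + algebraMap k C c * e * d := by
  let U := DualNumber (DualNumber k)
  let ε₁ : U := inl DualNumber.eps
  let ε₂ : U := DualNumber.eps
  have h1 : ε₁ * ε₁ = 0 := by simp [ε₁, U, ← inl_mul, DualNumber.eps_mul_eps]
  have h2 : ε₂ * ε₂ = 0 := DualNumber.eps_mul_eps
  let w := f U ε₁ ε₂ h1 h2
  let ev : ∀ (C : Type u) [CommRing C] [Algebra k C] (e d : C), e * e = 0 → d * d = 0 → (U →ₐ[k] C) :=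
    fun C _ _ e d he hd => DualNumber.lift ⟨(DualNumber.lift ⟨(Algebra.ofId k C, e), he, fun _ => Commute.all _ _⟩, d),
      hd, fun _ => Commute.all _ _⟩
  have hev1 : ∀ (C : Type u) [CommRing C] [Algebra k C] (e d : C) (he : e * e = 0) (hd : d * d = 0),
      ev C e d he hd ε₁ = e ∧ ev C e d he hd ε₂ = d := fun C _ _ e d he hd =>
    ⟨(DualNumber.lift_apply_inl _ _).trans (DualNumber.lift_apply_eps _), DualNumber.lift_apply_eps _⟩
  have key : ∀ (C : Type u) [CommRing C] [Algebra k C] (e d : C) (he : e * e = 0) (hd : d * d = 0),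
      f C e d he hd = algebraMap k C w.fst.fst + algebraMap k C w.fst.snd * e
        + (algebraMap k C w.snd.fst + algebraMap k C w.snd.snd * e) * d := by
    intro C _ _ e d he hd
    obtain ⟨ee, ed⟩ := hev1 C e d he hd
    have h := hnat U C (ev C e d he hd) ε₁ ε₂ h1 h2 (by rw [ee, he]) (by rw [ed, hd])
    refine Eq.trans ?_ (Eq.trans h.symm ?_)
    · congr 1 <;> first | exact ee.symm | exact ed.symm
    · rfl
  have hfst : ∀ r : k, (algebraMap k (DualNumber k) r).fst = r := fun _ => rfl
  have hsnd : ∀ r : k, (algebraMap k (DualNumber k) r).snd = 0 := fun _ => rfl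
  have hr := (h0r (DualNumber k) DualNumber.eps DualNumber.eps_mul_eps).symm.trans (key _ _ _ _ (mul_zero 0))
  have hl := (h0l (DualNumber k) DualNumber.eps DualNumber.eps_mul_eps).symm.trans (key _ _ _ (mul_zero 0) _)
  have e1 := congrArg fst hr
  have e2 := congrArg snd hr
  have e3 := congrArg snd hl
  simp [hfst, hsnd] at e1 e2 e3
  refine ⟨w.snd.snd, fun C _ _ e d he hd => ?_⟩
  rw [key, e1, ← e2, ← e3]
  simp

variable {p : ℕ} [Fact p.Prime] {C : Type u} [CommRing C]

/-- An element of `C[X]/X^p` invariant under infinitesimal translation is constant. -/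
theorem exists_eq_algebraMap_of_shift (hunit : ∀ i : ℕ, i ≠ 0 → i < p → IsUnit (i : C)) (a : AlphaP.A p C)
    (hs : ((DualNumber.eps : DualNumber (AlphaP.A p C)) + inl (AlphaP.x p C)) ^ p = 0)
    (h : AlphaP.lift p C ((DualNumber.eps : DualNumber (AlphaP.A p C)) + inl (AlphaP.x p C)) hs a = inl a) :
    ∃ c : C, a = algebraMap C (AlphaP.A p C) c := by
  rcases subsingleton_or_nontrivial C with hC | hC
  · haveI : Subsingleton (AlphaP.A p C) := Module.subsingleton C _
    exact ⟨0, Subsingleton.elim _ _⟩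
  obtain ⟨Q, rfl⟩ := AlphaP.mk_surjective p C a
  have hmon : ((X : C[X]) ^ p).Monic := monic_X_pow p
  have hX : AlphaP.mk p C ((X : C[X]) ^ p) = 0 := by rw [map_pow, AlphaP.mk_X, AlphaP.x_pow]
  have hQ : AlphaP.mk p C Q = AlphaP.mk p C (Q %ₘ X ^ p) := by
    conv_lhs => rw [← modByMonic_add_div Q (X ^ p), map_add, map_mul, hX, zero_mul, add_zero]
  rw [hQ] at h ⊢
  generalize hP : Q %ₘ X ^ p = P at h ⊢
  have hdeg : P.natDegree < p := by
    have h1 := natDegree_modByMonic_lt Q hmon (fun e => by
      have := congrArg natDegree e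
      rw [natDegree_X_pow, natDegree_one] at this
      exact (Fact.out : p.Prime).ne_zero this)
    rwa [natDegree_X_pow, hP] at h1
  rw [← AlphaP.aeval_x p C P, ← aeval_algHom_apply, AlphaP.lift_x, add_comm,
    Polynomial.aeval_add_of_sq_eq_zero _ _ _ (by rw [sq]; exact DualNumber.eps_mul_eps)] at h
  have h' := congrArg snd h
  have hinl : ∀ q : C[X], aeval (inl (AlphaP.x p C) : DualNumber (AlphaP.A p C)) q =
      inl (aeval (AlphaP.x p C) q) := fun q => aeval_algHom_apply (inlAlgHom C _ _) _ q
  simp [hinl, DualNumber.snd_eps, DualNumber.fst_eps] at h'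
  rw [AlphaP.aeval_x] at h'
  have hdvd : (X : C[X]) ^ p ∣ derivative P := AdjoinRoot.mk_eq_zero.1 h'
  have hzero : derivative P = 0 := by
    by_contra hne
    refine hmon.not_dvd_of_natDegree_lt hne ?_ hdvd
    rw [natDegree_X_pow]
    exact lt_of_le_of_lt ((natDegree_derivative_le _).trans (Nat.sub_le _ _)) hdeg
  have hc : P = Polynomial.C (P.coeff 0) := by
    ext i
    rcases i with _ | i
    · simp
    · rw [coeff_C, if_neg (Nat.succ_ne_zero i)]
      by_contra hne
      have hi : i + 1 < p := lt_of_le_of_lt (le_natDegree_of_ne_zero hne) hdeg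
      have hu : IsUnit ((i + 1 : ℕ) : C) := hunit _ i.succ_ne_zero hi
      have := congrArg (fun q => q.coeff i) hzero
      simp only [coeff_derivative, coeff_zero] at this
      exact hne (hu.mul_left_eq_zero.1 (by push_cast; exact this))
  exact ⟨P.coeff 0, by conv_lhs => rw [hc, ← AlphaP.aeval_x, aeval_C]⟩

end Groth.Agent.CentralPair
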