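import Mathlib.Algebra.CharP.Frobenius
import Mathlib.Algebra.CharP.Reduced
import Mathlib.Algebra.MonoidAlgebra.Basic
import Mathlib.RingTheory.Nilpotent.Lemmas
import Mathlib.Data.Nat.Factorization.Basic
import Mathlib.FieldTheory.IsAlgClosed.AlgebraicClosure
import Mathlib.RingTheory.RootsOfUnity.AlgebraicallyClosed
import Mathlib.RingTheory.RootsOfUnity.PrimitiveRoots
import Mathlib.FieldTheory.IsSepClosed
import Mathlib.RingTheory.LocalRing.ResidueField.Basic

/-!
# Alternating bicharacters of the roots of unity are trivial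
-/

set_option autoImplicit false

universe u

namespace Groth.Agent.CentralPair

/-- The `n`-th roots of unity of `A`. -/
abbrev Rt (n : ℕ) (A : Type u) [CommRing A] : Type u := Multiplicative (ZMod n) →* A

variable {n : ℕ} [NeZero n]

theorem rt_apply {A : Type u} [CommRing A] (x : Rt n A) (j : ZMod n) :
    x (Multiplicative.ofAdd j) = x (Multiplicative.ofAdd 1) ^ j.val := by
  rw [← map_pow, ← ofAdd_nsmul, nsmul_one, ZMod.natCast_zmod_val]

theorem rt_ext {A : Type u} [CommRing A] {x y : Rt n A}
    (h : x (Multiplicative.ofAdd 1) = y (Multiplicative.ofAdd 1)) : x = y :=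
  MonoidHom.ext fun g => by rw [← ofAdd_toAdd g, rt_apply, rt_apply y, h]

theorem rt_pow_eq_one {A : Type u} [CommRing A] (x : Rt n A) : x (Multiplicative.ofAdd 1) ^ n = 1 := by
  rw [← map_pow, ← ofAdd_nsmul, nsmul_one, ZMod.natCast_self, ofAdd_zero, map_one]

/-- An alternating homomorphism from the roots of unity of an algebraically closed field to `ℤ/n` is trivial. -/
theorem hom_eq_zero {L : Type u} [Field L] [IsAlgClosed L] (φ : Rt n L → ZMod n)
    (hadd : ∀ x y, φ (x * y) = φ x + φ y) (halt : ∀ x : Rt n L, x (Multiplicative.ofAdd (φ x)) = 1) (x : Rt n L) :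
    φ x = 0 := by
  classical
  have hn : n ≠ 0 := NeZero.ne n
  obtain ⟨q, hq⟩ : ∃ q, ExpChar L q := ExpChar.exists L
  obtain ⟨e, m, hm, hcop, hroot⟩ : ∃ e m : ℕ, n = q ^ e * m ∧ Nat.Coprime (q ^ e) m ∧ (m : L) ≠ 0 := by
    cases hq with
    | zero => exact ⟨0, n, by simp, by simp, by exact_mod_cast hn⟩
    | prime hp =>
      obtain ⟨e, m, hm, he⟩ := Nat.exists_eq_pow_mul_and_not_dvd hn q hp.ne_one
      exact ⟨e, m, he, (hp.coprime_iff_not_dvd.2 hm).pow_left e, fun h => hm ((CharP.cast_eq_zero_iff L q m).1 h)⟩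
  have hred : ∀ z : L, z ^ n = 1 → z ^ m = 1 := fun z hz => by
    have h : iterateFrobenius L q e (z ^ m) = iterateFrobenius L q e 1 := by
      rw [iterateFrobenius_def, iterateFrobenius_def, one_pow, ← pow_mul, mul_comm m, ← hm, hz]
    exact iterateFrobenius_inj L q e h
  haveI : NeZero (m : L) := ⟨hroot⟩
  haveI : NeZero m := ⟨fun h => hroot (by simp [h])⟩
  obtain ⟨ζ, hζ⟩ := HasEnoughRootsOfUnity.exists_primitiveRoot L m
  have hζn : ζ ^ n = 1 := by rw [hm, mul_comm, pow_mul, hζ.pow_eq_one, one_pow]
  let ψ : Rt n L :=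
    { toFun := fun g => ζ ^ (g.toAdd).val
      map_one' := by simp
      map_mul' := fun a b => by
        rw [toAdd_mul, ← pow_add]
        refine pow_eq_pow_of_modEq ?_ hζn
        rw [ZMod.val_add]
        exact Nat.mod_modEq _ _ }
  have hψ : ∀ j : ZMod n, ψ (Multiplicative.ofAdd j) = ζ ^ j.val := fun _ => rfl
  have h1 : φ 1 = 0 := by
    have := hadd 1 1
    rw [one_mul] at this
    exact left_eq_add.1 this
  have hpow : ∀ i : ℕ, φ (ψ ^ i) = i • φ ψ := fun i => by
    induction i with
    | zero => rw [pow_zero, zero_smul, h1]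
    | succ i ih => rw [pow_succ, hadd, ih, add_smul, one_smul]
  have hψm : ψ ^ m = 1 := MonoidHom.ext fun g => by
    show (ζ ^ (g.toAdd).val) ^ m = 1
    rw [← pow_mul, mul_comm, pow_mul, hζ.pow_eq_one, one_pow]
  have hd1 : m ∣ (φ ψ).val := hζ.dvd_of_pow_eq_one _ ((hψ _).symm.trans (halt ψ))
  have hd2 : q ^ e ∣ (φ ψ).val := by
    have h : m • φ ψ = 0 := by rw [← hpow, hψm, h1]
    rw [← ZMod.natCast_zmod_val (φ ψ), nsmul_eq_mul, ← Nat.cast_mul, ZMod.natCast_eq_zero_iff] at h
    have h' : m * q ^ e ∣ m * (φ ψ).val := (dvd_of_eq ((mul_comm _ _).trans hm.symm)).trans h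
    exact Nat.dvd_of_mul_dvd_mul_left (NeZero.pos m) h'
  have h0 : φ ψ = 0 := by
    have hd : n ∣ (φ ψ).val := (dvd_of_eq hm).trans (hcop.mul_dvd_of_dvd_of_dvd hd2 hd1)
    rw [← ZMod.natCast_zmod_val (φ ψ), ZMod.natCast_eq_zero_iff]
    exact hd
  obtain ⟨i, -, hi⟩ := hζ.eq_pow_of_pow_eq_one (hred _ (rt_pow_eq_one x))
  have hx : x = ψ ^ i := by
    rcases (show n = 1 ∨ 1 < n by omega) with h | h
    · subst h
      refine MonoidHom.ext fun g => ?_
      rw [show g = 1 from Subsingleton.elim _ _, map_one, map_one]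
    · haveI : Fact (1 < n) := ⟨h⟩
      refine rt_ext ?_
      show _ = (ψ (Multiplicative.ofAdd 1)) ^ i
      rw [hψ, ZMod.val_one, pow_one, hi]
  rw [hx, hpow, h0, smul_zero]

section

variable {R : Type u} [CommRing R]

/-- A bimultiplicative alternating pairing of the roots of unity with values in units is trivial. -/
theorem bichar_eq_one (f : ∀ (A : Type u) [CommRing A] [Algebra R A], Rt n A → Rt n A → A)
    (hnat : ∀ (A B : Type u) [CommRing A] [Algebra R A] [CommRing B] [Algebra R B] (φ : A →ₐ[R] B) (x y : Rt n A),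
      φ (f A x y) = f B ((φ : A →* B).comp x) ((φ : A →* B).comp y))
    (hmulL : ∀ (A : Type u) [CommRing A] [Algebra R A] (x x' y : Rt n A), f A (x * x') y = f A x y * f A x' y)
    (hmulR : ∀ (A : Type u) [CommRing A] [Algebra R A] (x y y' : Rt n A), f A x (y * y') = f A x y * f A x y')
    (hone : ∀ (A : Type u) [CommRing A] [Algebra R A] (x : Rt n A), f A x 1 = 1)
    (halt : ∀ (A : Type u) [CommRing A] [Algebra R A] (x : Rt n A), f A x x = 1)
    (A : Type u) [CommRing A] [Algebra R A] (x y : Rt n A) : f A x y = 1 := by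
  classical
  -- the coefficients against the universal root
  let univ : ∀ (B : Type u) [CommRing B], Rt n (MonoidAlgebra B (Multiplicative (ZMod n))) :=
    fun B _ => MonoidAlgebra.of B _
  let coe : ∀ (B : Type u) [CommRing B] [Algebra R B], Rt n B → MonoidAlgebra B (Multiplicative (ZMod n)) :=
    fun B _ _ z => f (MonoidAlgebra B (Multiplicative (ZMod n)))
      (((IsScalarTower.toAlgHom R B (MonoidAlgebra B (Multiplicative (ZMod n)))) : B →* _).comp z) (univ B)
  have heval : ∀ (B : Type u) [CommRing B] [Algebra R B] (z w : Rt n B),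
      MonoidAlgebra.lift B B (Multiplicative (ZMod n)) w (coe B z) = f B z w := by
    intro B _ _ z w
    let ev := (MonoidAlgebra.lift B B (Multiplicative (ZMod n)) w).restrictScalars R
    refine (hnat _ _ ev _ _).trans ?_
    congr 1
    · refine MonoidHom.ext fun g => ?_
      show MonoidAlgebra.lift B B _ w (algebraMap B _ (z g)) = z g
      exact AlgHom.commutes _ _
    · refine MonoidHom.ext fun g => ?_
      exact MonoidAlgebra.lift_of w g
  have hbc : ∀ (B B' : Type u) [CommRing B] [Algebra R B] [CommRing B'] [Algebra R B'] (φ : B →ₐ[R] B') (z : Rt n B)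
      (g : Multiplicative (ZMod n)), φ ((coe B z).coeff g) = (coe B' ((φ : B →* B').comp z)).coeff g := by
    intro B B' _ _ _ _ φ z g
    let Φ : MonoidAlgebra B (Multiplicative (ZMod n)) →ₐ[R] MonoidAlgebra B' (Multiplicative (ZMod n)) :=
      MonoidAlgebra.mapAlgHom _ φ
    have h := hnat _ _ Φ (((IsScalarTower.toAlgHom R B (MonoidAlgebra B (Multiplicative (ZMod n)))) : B →* _).comp z)
      (univ B)
    have e1 : ((Φ : MonoidAlgebra B (Multiplicative (ZMod n)) →* MonoidAlgebra B' (Multiplicative (ZMod n)))).comp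
          (((IsScalarTower.toAlgHom R B (MonoidAlgebra B (Multiplicative (ZMod n)))) : B →* _).comp z)
        = ((IsScalarTower.toAlgHom R B' (MonoidAlgebra B' (Multiplicative (ZMod n)))) :
            B' →* MonoidAlgebra B' (Multiplicative (ZMod n))).comp ((φ : B →* B').comp z) := by
      refine MonoidHom.ext fun g => ?_
      simp [Φ]
    have e2 : ((Φ : _ →* _)).comp (univ B) = univ B' := by
      refine MonoidHom.ext fun g => ?_
      simp [Φ, univ]
    rw [e1, e2] at h
    have h' : (Φ (coe B z)).coeff g = (coe B' ((φ : B →* B').comp z)).coeff g := congrArg (fun a : MonoidAlgebra B' _ => a.coeff g) h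
    simpa [Φ] using h'
  have hidem : ∀ (B : Type u) [CommRing B] [Algebra R B] (z : Rt n B) (g h : Multiplicative (ZMod n)),
      (coe B z).coeff g * (coe B z).coeff h = if g = h then (coe B z).coeff g else 0 := by
    intro B _ _ z g h
    let P₁ : Rt n (MonoidAlgebra B (Multiplicative (ZMod n) × Multiplicative (ZMod n))) := (MonoidAlgebra.of B _).comp (MonoidHom.inl _ _)
    let P₂ : Rt n (MonoidAlgebra B (Multiplicative (ZMod n) × Multiplicative (ZMod n))) := (MonoidAlgebra.of B _).comp (MonoidHom.inr _ _)
    let zM : Rt n (MonoidAlgebra B (Multiplicative (ZMod n) × Multiplicative (ZMod n))) := ((IsScalarTower.toAlgHom R B (MonoidAlgebra B (Multiplicative (ZMod n) × Multiplicative (ZMod n)))) : B →* _).comp z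
    have hc : ∀ (π : Multiplicative (ZMod n) →* Multiplicative (ZMod n) × Multiplicative (ZMod n)),
        f (MonoidAlgebra B (Multiplicative (ZMod n) × Multiplicative (ZMod n))) zM ((MonoidAlgebra.of B _).comp π) = MonoidAlgebra.mapDomain π (coe B z) := by
      intro π
      let Φ : MonoidAlgebra B (Multiplicative (ZMod n)) →ₐ[R] (MonoidAlgebra B (Multiplicative (ZMod n) × Multiplicative (ZMod n))) := (MonoidAlgebra.mapDomainAlgHom B B π).restrictScalars R
      refine Eq.trans ?_ ((hnat _ _ Φ _ _).symm)
      congr 1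
      · refine MonoidHom.ext fun g => ?_
        simp [Φ, zM]
      · refine MonoidHom.ext fun g => ?_
        simp [Φ, univ]
    have hP : P₁ * P₂ = (MonoidAlgebra.of B _).comp
        (MonoidHom.inl _ _ * MonoidHom.inr (Multiplicative (ZMod n)) (Multiplicative (ZMod n))) := by
      refine MonoidHom.ext fun g => ?_
      simp [P₁, P₂]
    have key := hmulR (MonoidAlgebra B (Multiplicative (ZMod n) × Multiplicative (ZMod n))) zM P₁ P₂
    rw [hP, hc, show f (MonoidAlgebra B (Multiplicative (ZMod n) × Multiplicative (ZMod n))) zM P₁ = _ from hc _, show f (MonoidAlgebra B (Multiplicative (ZMod n) × Multiplicative (ZMod n))) zM P₂ = _ from hc _] at key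
    have hsum : ∀ a : MonoidAlgebra B (Multiplicative (ZMod n)), a = ∑ i, MonoidAlgebra.single i (a.coeff i) :=
      fun a => MonoidAlgebra.coeff_injective (by simp [Finsupp.univ_sum_single])
    have key' := congrArg (fun a : (MonoidAlgebra B (Multiplicative (ZMod n) × Multiplicative (ZMod n))) => a.coeff (g, h)) key
    have hmd : ∀ (π : Multiplicative (ZMod n) →* Multiplicative (ZMod n) × Multiplicative (ZMod n)),
        MonoidAlgebra.mapDomain π (coe B z) = ∑ i, MonoidAlgebra.single (π i) ((coe B z).coeff i) := fun π => by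
      conv_lhs => rw [hsum (coe B z)]
      rw [show MonoidAlgebra.mapDomain π (∑ i, MonoidAlgebra.single i ((coe B z).coeff i)) =
        ∑ i, MonoidAlgebra.mapDomain π (MonoidAlgebra.single i ((coe B z).coeff i)) from
        map_sum (MonoidAlgebra.mapDomainRingHom B π) _ _]
      simp only [MonoidAlgebra.mapDomain_single]
    rw [hmd, hmd, hmd] at key'
    simp only [Finset.sum_mul_sum, MonoidAlgebra.single_mul_single, MonoidAlgebra.coeff_sum,
      MonoidAlgebra.coeff_single, Finsupp.finsetSum_apply, Finsupp.single_apply] at key'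
    simp only [MonoidHom.mul_apply, MonoidHom.inl_apply, MonoidHom.inr_apply, Prod.mk_mul_mk, mul_one, one_mul,
      Prod.mk.injEq, ite_and, Finset.sum_ite_eq', Finset.mem_univ, if_true] at key'
    rw [Finset.sum_eq_single g (fun i _ hi => by simp [hi]) (by simp)] at key'
    simp only [if_true, Finset.sum_ite_eq', Finset.mem_univ] at key'
    exact key'.symm
  have hsum1 : ∀ (B : Type u) [CommRing B] [Algebra R B] (z : Rt n B), ∑ g, (coe B z).coeff g = 1 := by
    intro B _ _ z
    have h := heval B z 1
    rw [hone, MonoidAlgebra.lift_apply, Finsupp.sum_fintype _ _ (by simp)] at h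
    simpa using h
  -- at geometric points all coefficients but the first vanish
  have hfield : ∀ (L : Type u) [Field L] [Algebra R L] [IsAlgClosed L] (z : Rt n L) (g : Multiplicative (ZMod n)),
      g ≠ 1 → (coe L z).coeff g = 0 := by
    intro L _ _ _
    have hex : ∀ z : Rt n L, ∃ g, coe L z = MonoidAlgebra.single g 1 := fun z => by
      obtain ⟨g, -, hg⟩ := Finset.exists_ne_zero_of_sum_ne_zero (s := Finset.univ) (f := fun g => (coe L z).coeff g)
        (by rw [hsum1]; exact one_ne_zero)
      refine ⟨g, MonoidAlgebra.coeff_injective (Finsupp.ext fun h => ?_)⟩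
      rw [MonoidAlgebra.coeff_single, Finsupp.single_apply]
      split_ifs with e
      · subst e
        have := hidem L z g g
        rw [if_pos rfl] at this
        exact (mul_eq_left₀ hg).1 this
      · have := hidem L z g h
        rw [if_neg e] at this
        exact (mul_eq_zero.1 this).resolve_left hg
    choose φ hφ using hex
    have hadd : ∀ z w, φ (z * w) = φ z * φ w := fun z w => by
      have h := hφ (z * w)
      have h' : coe L (z * w) = coe L z * coe L w := by
        show f _ _ _ = f _ _ _ * f _ _ _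
        rw [← hmulL]
        congr 1
        exact MonoidHom.ext fun _ => map_mul (algebraMap L _) _ _
      rw [h', hφ z, hφ w, MonoidAlgebra.single_mul_single, mul_one] at h
      exact ((MonoidAlgebra.single_left_inj (one_ne_zero' L)).1 h).symm
    have hzero : ∀ z, φ z = 1 := fun z => by
      refine Multiplicative.toAdd.injective
        (hom_eq_zero (fun w => (φ w).toAdd) (fun a b => by rw [hadd, toAdd_mul]) (fun w => ?_) z)
      have h := heval L w w
      rw [halt, hφ, MonoidAlgebra.lift_single, one_smul] at h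
      rw [ofAdd_toAdd]
      exact h
    intro z g hg
    rw [hφ, hzero, MonoidAlgebra.coeff_single, Finsupp.single_apply, if_neg hg.symm]
  have hvan : ∀ g : Multiplicative (ZMod n), g ≠ 1 → (coe A x).coeff g = 0 := by
    intro g hg
    have hnil : IsNilpotent ((coe A x).coeff g) := by
      rw [← mem_nilradical, nilradical_eq_sInf, Ideal.mem_sInf]
      intro P (hP : P.IsPrime)
      haveI := hP
      let L := AlgebraicClosure (FractionRing (A ⧸ P))
      have hinj : Function.Injective (algebraMap (A ⧸ P) L) := by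
        rw [IsScalarTower.algebraMap_eq (A ⧸ P) (FractionRing (A ⧸ P)) L]
        exact (RingHom.injective (algebraMap (FractionRing (A ⧸ P)) L)).comp
          (IsFractionRing.injective (A ⧸ P) (FractionRing (A ⧸ P)))
      let φ : A →ₐ[R] L := (IsScalarTower.toAlgHom R (A ⧸ P) L).comp (Ideal.Quotient.mkₐ R P)
      have h := hbc A L φ x g
      rw [hfield L _ g hg] at h
      exact Ideal.Quotient.eq_zero_iff_mem.1 ((map_eq_zero_iff _ hinj).1 h)
    obtain ⟨k, hk⟩ := hnil
    have hp : ∀ j : ℕ, (coe A x).coeff g ^ (j + 1) = (coe A x).coeff g := fun j => by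
      induction j with
      | zero => rw [pow_one]
      | succ j ih => rw [pow_succ, ih, hidem, if_pos rfl]
    rw [← hp k, pow_succ, hk, zero_mul]
  rw [← heval A x y, MonoidAlgebra.lift_apply, Finsupp.sum_fintype _ _ (by simp),
    Finset.sum_eq_single 1 (fun g _ hg => by rw [hvan g hg, zero_smul]) (by simp)]
  conv_lhs => rw [smul_eq_mul, map_one y, _root_.mul_one]
  rw [← hsum1 A x, Finset.sum_eq_single 1 (fun g _ hg => hvan g hg) (by simp)]

end

end Groth.Agent.CentralPair
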