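import Groth.Agent.BalLib.Descent

/-!
# The commutator pairing of a central extension
-/

set_option autoImplicit false

universe u

open CategoryTheory CategoryTheory.Limits AlgebraicGeometry MonoidalCategory CartesianMonoidalCategory MonObj GrpObj

namespace Groth.Agent.CentralPair

open Groth.Agent.BalLib

variable {S : Scheme.{u}} {A G K : Over S}

theorem hasLocSec_of_fppf {U Y : Over S} (j : U ⟶ Y) [Flat j.left] [Surjective j.left]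
    [LocallyOfFinitePresentation j.left] : HasLocSec j := by
  refine ⟨_, Precoverage.generate_mem_toGrothendieck j.left.singleton_mem_fppfPrecoverage, ?_⟩
  rintro T a ⟨V, b, g, hg, rfl⟩
  cases hg
  exact ⟨b, rfl⟩

/-- Local liftings of a point. -/
theorem local_lift {v : G ⟶ K} (hv : HasLocSec v) {T : Over S} (x : T ⟶ K) :
    ∃ R ∈ Scheme.fppfTopology T.left, ∀ (T' : Over S) (a : T' ⟶ T), R a.left → ∃ g : T' ⟶ G, g ≫ v = a ≫ x := by
  obtain ⟨R, hR, hsec⟩ := hv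
  refine ⟨R.pullback x.left, Scheme.fppfTopology.pullback_stable _ hR, fun T' a ha => ?_⟩
  obtain ⟨s, hs⟩ := hsec _ ha
  exact ⟨Over.homMk s (by
    show s ≫ G.hom = T'.hom
    rw [← Over.w v, ← Category.assoc, hs, Category.assoc, Over.w x, Over.w a]), Over.OverMorphism.ext hs⟩

/-- Maps agree when they agree wherever three given points lift. -/
theorem ext_of_lifts {v : G ⟶ K} (hv : HasLocSec v) {T W : Over S} (x y z : T ⟶ K) {p q : T ⟶ W}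
    (h : ∀ (T' : Over S) (a : T' ⟶ T) (g g' g'' : T' ⟶ G),
      g ≫ v = a ≫ x → g' ≫ v = a ≫ y → g'' ≫ v = a ≫ z → a ≫ p = a ≫ q) : p = q := by
  obtain ⟨R₁, h₁, l₁⟩ := local_lift hv x
  obtain ⟨R₂, h₂, l₂⟩ := local_lift hv y
  obtain ⟨R₃, h₃, l₃⟩ := local_lift hv z
  refine Over.OverMorphism.ext (scheme_hom_ext
    (Scheme.fppfTopology.intersection_covering (Scheme.fppfTopology.intersection_covering h₁ h₂) h₃) fun V a ha => ?_)
  let a' : Over.mk (a ≫ T.hom) ⟶ T := Over.homMk a rfl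
  obtain ⟨g, hg⟩ := l₁ _ a' ha.1.1
  obtain ⟨g', hg'⟩ := l₂ _ a' ha.1.2
  obtain ⟨g'', hg''⟩ := l₃ _ a' ha.2
  exact congrArg CommaMorphism.left (h _ a' g g' g'' hg hg' hg'')

theorem hasLocSec_tensor {v : G ⟶ K} (hv : HasLocSec v) : HasLocSec (lift (fst G G ≫ v) (snd G G ≫ v)) := by
  obtain ⟨R₁, h₁, l₁⟩ := local_lift hv (fst K K)
  obtain ⟨R₂, h₂, l₂⟩ := local_lift hv (snd K K)
  refine ⟨R₁ ⊓ R₂, Scheme.fppfTopology.intersection_covering h₁ h₂, fun V a ha => ?_⟩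
  let a' : Over.mk (a ≫ (K ⊗ K).hom) ⟶ K ⊗ K := Over.homMk a rfl
  obtain ⟨g, hg⟩ := l₁ _ a' ha.1
  obtain ⟨g', hg'⟩ := l₂ _ a' ha.2
  refine ⟨(lift g g').left, ?_⟩
  have h : lift g g' ≫ lift (fst G G ≫ v) (snd G G ≫ v) = a' := by
    refine CartesianMonoidalCategory.hom_ext _ _ ?_ ?_
    · rw [Category.assoc, lift_fst, lift_fst_assoc, hg]
    · rw [Category.assoc, lift_snd, lift_snd_assoc, hg']
  exact congrArg CommaMorphism.left h

variable [GrpObj A] [GrpObj G] [GrpObj K]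

/-- A central extension, by points. -/
structure IsCentralExt (u : A ⟶ G) (v : G ⟶ K) : Prop where
  hu : IsMonHom u
  hv : IsMonHom v
  sec : HasLocSec v
  ker : ∀ (T : Over S) (d : T ⟶ G), d ≫ v = 1 → ∃ k : T ⟶ A, k ≫ u = d
  inj : ∀ (T : Over S) (k k' : T ⟶ A), k ≫ u = k' ≫ u → k = k'
  comm : ∀ (T : Over S) (x y : T ⟶ K), x * y = y * x
  central : ∀ (T : Over S) (g : T ⟶ G) (t : T ⟶ A), g * (t ≫ u) = (t ≫ u) * g

namespace IsCentralExt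

variable {u : A ⟶ G} {v : G ⟶ K} (h : IsCentralExt u v)
include h

theorem exists_pairing : ∃ χ : K ⊗ K ⟶ A, ∀ (T : Over S) (g g' : T ⟶ G),
    (lift (g ≫ v) (g' ≫ v) ≫ χ) ≫ u = g * g' * g⁻¹ * g'⁻¹ := by
  haveI := h.hu
  haveI := h.hv
  obtain ⟨c, hc⟩ := h.ker (G ⊗ G) (fst G G * snd G G * (fst G G)⁻¹ * (snd G G)⁻¹) (by
    rw [MonObj.mul_comp, MonObj.mul_comp, MonObj.mul_comp, GrpObj.inv_comp, GrpObj.inv_comp,
      h.comm _ (fst G G ≫ v) (snd G G ≫ v)]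
    group)
  have hcT : ∀ (T : Over S) (g g' : T ⟶ G), (lift g g' ≫ c) ≫ u = g * g' * g⁻¹ * g'⁻¹ := fun T g g' => by
    rw [Category.assoc, hc]
    simp only [MonObj.comp_mul, GrpObj.comp_inv, lift_fst, lift_snd]
  obtain ⟨χ, hχ, -⟩ := (hasLocSec_tensor h.sec).existsUnique_desc c fun T a b hab => by
    have ha : a = lift (a ≫ fst G G) (a ≫ snd G G) := by ext1 <;> simp
    have hb : b = lift (b ≫ fst G G) (b ≫ snd G G) := by ext1 <;> simp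
    have h1 : (a ≫ fst G G) ≫ v = (b ≫ fst G G) ≫ v := by
      simpa using congrArg (· ≫ fst K K) hab
    have h2 : (a ≫ snd G G) ≫ v = (b ≫ snd G G) ≫ v := by
      simpa using congrArg (· ≫ snd K K) hab
    refine h.inj _ _ _ ?_
    rw [ha, hb, hcT, hcT]
    generalize a ≫ fst G G = g, a ≫ snd G G = g', b ≫ fst G G = k, b ≫ snd G G = k' at h1 h2
    obtain ⟨s, hs⟩ := h.ker T (k⁻¹ * g) (by rw [MonObj.mul_comp, GrpObj.inv_comp, h1, inv_mul_cancel])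
    obtain ⟨t, ht⟩ := h.ker T (k'⁻¹ * g') (by rw [MonObj.mul_comp, GrpObj.inv_comp, h2, inv_mul_cancel])
    obtain rfl : g = k * (s ≫ u) := by rw [hs, mul_inv_cancel_left]
    obtain rfl : g' = k' * (t ≫ u) := by rw [ht, mul_inv_cancel_left]
    have cs : ∀ x : T ⟶ G, x * (s ≫ u) = (s ≫ u) * x := fun x => h.central T x s
    have ct : ∀ x : T ⟶ G, x * (t ≫ u) = (t ≫ u) * x := fun x => h.central T x t
    calc k * (s ≫ u) * (k' * (t ≫ u)) * (k * (s ≫ u))⁻¹ * (k' * (t ≫ u))⁻¹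
        = k * ((s ≫ u) * k') * ((t ≫ u) * (s ≫ u)⁻¹ * k⁻¹) * ((t ≫ u)⁻¹ * k'⁻¹) := by group
      _ = k * (k' * (s ≫ u)) * ((s ≫ u)⁻¹ * (t ≫ u) * k⁻¹) * ((t ≫ u)⁻¹ * k'⁻¹) := by
        have e : (t ≫ u) * (s ≫ u)⁻¹ = (s ≫ u)⁻¹ * (t ≫ u) := (ct _).symm
        rw [cs k', e]
      _ = k * k' * ((t ≫ u) * k⁻¹) * ((t ≫ u)⁻¹ * k'⁻¹) := by group
      _ = k * k' * (k⁻¹ * (t ≫ u)) * ((t ≫ u)⁻¹ * k'⁻¹) := by rw [ct k⁻¹]
      _ = k * k' * k⁻¹ * k'⁻¹ := by group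
  refine ⟨χ, fun T g g' => ?_⟩
  have e : lift (g ≫ v) (g' ≫ v) = lift g g' ≫ lift (fst G G ≫ v) (snd G G ≫ v) := by ext1 <;> simp
  rw [e, Category.assoc _ _ χ, hχ, hcT]

variable {χ : K ⊗ K ⟶ A}
  (hχ : ∀ (T : Over S) (g g' : T ⟶ G), (lift (g ≫ v) (g' ≫ v) ≫ χ) ≫ u = g * g' * g⁻¹ * g'⁻¹)
include hχ

theorem pairing_self (T : Over S) (x : T ⟶ K) : lift x x ≫ χ = 1 := by
  haveI := h.hu
  refine ext_of_lifts h.sec x x x fun T' a g _ _ hg _ _ => h.inj _ _ _ ?_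
  rw [← Category.assoc a, comp_lift, ← hg, hχ, MonObj.comp_one, MonObj.one_comp]
  group

theorem pairing_mul_left (T : Over S) (x x' y : T ⟶ K) :
    lift (x * x') y ≫ χ = (lift x y ≫ χ) * (lift x' y ≫ χ) := by
  haveI := h.hu
  haveI := h.hv
  refine ext_of_lifts h.sec x x' y fun T' a g g' g'' hg hg' hg'' => h.inj _ _ _ ?_
  simp only [MonObj.comp_mul, ← Category.assoc a, comp_lift, MonObj.mul_comp]
  rw [← hg, ← hg', ← hg'', ← MonObj.mul_comp, hχ, hχ, hχ]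
  have hc : ∀ z : T' ⟶ G, z * (g' * g'' * g'⁻¹ * g''⁻¹) = g' * g'' * g'⁻¹ * g''⁻¹ * z := fun z => by
    rw [← hχ]; exact h.central T' z _
  calc g * g' * g'' * (g * g')⁻¹ * g''⁻¹ = g * (g' * g'' * g'⁻¹ * g''⁻¹) * (g'' * g⁻¹ * g''⁻¹) := by group
    _ = (g' * g'' * g'⁻¹ * g''⁻¹) * g * (g'' * g⁻¹ * g''⁻¹) := by rw [hc]
    _ = (g' * g'' * g'⁻¹ * g''⁻¹) * (g * g'' * g⁻¹ * g''⁻¹) := by group
    _ = (g * g'' * g⁻¹ * g''⁻¹) * (g' * g'' * g'⁻¹ * g''⁻¹) := (hc _).symm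

theorem pairing_mul_right (T : Over S) (x y y' : T ⟶ K) :
    lift x (y * y') ≫ χ = (lift x y ≫ χ) * (lift x y' ≫ χ) := by
  haveI := h.hu
  haveI := h.hv
  refine ext_of_lifts h.sec x y y' fun T' a g g' g'' hg hg' hg'' => h.inj _ _ _ ?_
  simp only [MonObj.comp_mul, ← Category.assoc a, comp_lift, MonObj.mul_comp]
  rw [← hg, ← hg', ← hg'', ← MonObj.mul_comp, hχ, hχ, hχ]
  have hc : ∀ z : T' ⟶ G, z * (g * g'' * g⁻¹ * g''⁻¹) = g * g'' * g⁻¹ * g''⁻¹ * z := fun z => by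
    rw [← hχ]; exact h.central T' z _
  calc g * (g' * g'') * g⁻¹ * (g' * g'')⁻¹ = g * g' * g⁻¹ * ((g * g'' * g⁻¹ * g''⁻¹) * g'⁻¹) := by group
    _ = g * g' * g⁻¹ * (g'⁻¹ * (g * g'' * g⁻¹ * g''⁻¹)) := by rw [hc]
    _ = (g * g' * g⁻¹ * g'⁻¹) * (g * g'' * g⁻¹ * g''⁻¹) := by group

theorem comm_of_pairing (h1 : χ = 1) (T : Over S) (g g' : T ⟶ G) : g * g' = g' * g := by
  haveI := h.hu
  have e := hχ T g g'
  rw [h1, MonObj.comp_one, MonObj.one_comp] at e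
  calc g * g' = g * g' * g⁻¹ * g'⁻¹ * (g' * g) := by group
    _ = g' * g := by rw [← e, _root_.one_mul]

end IsCentralExt

end Groth.Agent.CentralPair
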