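import Groth.Agent.CentralPair.Bichar
import Groth.Agent.CentralPair.Pairing
import Groth.Agent.GrpSchLib.AffineHopf

/-!
# Central extensions of the roots of unity by the multiplicative group
-/

set_option autoImplicit false

universe u

open CategoryTheory CategoryTheory.Limits AlgebraicGeometry MonoidalCategory CartesianMonoidalCategory MonObj GrpObj
open WithConv Groth.Agent.GrpSchLib.AffineHopf

namespace Groth.Agent.CentralPair

theorem eq_one_of_self_mul {G : Type*} [Group G] {a : G} (h : a = a * a) : a = 1 := left_eq_mul.1 h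

variable {R : Type u} [CommRing R]

/-- Morphisms agree when they agree on points with values in algebras. -/
theorem ext_sp {Y W : Over (Spec (CommRingCat.of R))} {a b : Y ⟶ W}
    (h : ∀ (B : Type u) [CommRing B] [Algebra R B] (z : sp R B ⟶ Y), z ≫ a = z ≫ b) : a = b := by
  refine Over.OverMorphism.ext (Scheme.Cover.hom_ext Y.left.affineCover _ _ fun i => ?_)
  obtain ⟨B, hB⟩ : ∃ B : CommRingCat.{u}, Y.left.affineCover.X i = Spec B := ⟨_, rfl⟩
  let ι₁ : Spec B ⟶ Y.left := eqToHom hB.symm ≫ Y.left.affineCover.f i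
  obtain ⟨φ, hφ⟩ := Spec.map_surjective (ι₁ ≫ Y.hom)
  let := φ.hom.toAlgebra
  have hz : ι₁ ≫ Y.hom = (sp R B).hom := hφ.symm
  have h1 := congrArg CommaMorphism.left (h B (Over.homMk ι₁ hz))
  rw [← cancel_epi (eqToHom hB.symm)]
  exact (Category.assoc _ _ _).symm.trans (h1.trans (Category.assoc _ _ _))

variable {M : Type} [AddCommGroup M]

/-- The point of a diagonalisable group given by a character. -/
noncomputable def dpt {A : Type u} [CommRing A] [Algebra R A] (x : Multiplicative M →* A) : sp R A ⟶ Red.diag R M :=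
  spMap (MonoidAlgebra.lift R A _ x)

theorem dpt_surjective {A : Type u} [CommRing A] [Algebra R A] (t : sp R A ⟶ Red.diag R M) :
    ∃ x : Multiplicative M →* A, dpt x = t := by
  obtain ⟨f, rfl⟩ := exists_eq_spMap (B := MonoidAlgebra R (Multiplicative M)) t
  exact ⟨(MonoidAlgebra.lift R A _).symm f, congrArg spMap ((MonoidAlgebra.lift R A _).apply_symm_apply f)⟩

theorem dpt_injective {A : Type u} [CommRing A] [Algebra R A] {x y : Multiplicative M →* A}
    (h : dpt (R := R) x = dpt y) : x = y :=
  (MonoidAlgebra.lift R A _).injective (spMap_injective h)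

theorem dpt_mul {A : Type u} [CommRing A] [Algebra R A] (x y : Multiplicative M →* A) :
    dpt (R := R) (x * y) = dpt x * dpt y := by
  rw [dpt, dpt, dpt, spMap_mul]
  congr 1
  refine MonoidAlgebra.algHom_ext (fun m => ?_) (by ext)
  rw [AlgHom.convMul_apply, MonoidAlgebra.comul_single]
  simp [Algebra.TensorProduct.one_def]

theorem dpt_one {A : Type u} [CommRing A] [Algebra R A] : dpt (R := R) (1 : Multiplicative M →* A) = 1 := by
  have h := dpt_mul (R := R) (1 : Multiplicative M →* A) 1
  rw [_root_.one_mul] at h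
  exact eq_one_of_self_mul h

theorem spMap_dpt {A B : Type u} [CommRing A] [Algebra R A] [CommRing B] [Algebra R B] (φ : A →ₐ[R] B)
    (x : Multiplicative M →* A) : spMap φ ≫ dpt x = dpt ((φ : A →* B).comp x) := by
  rw [dpt, spMap_comp, dpt]
  congr 1
  exact MonoidAlgebra.algHom_ext (fun m => by simp) (by ext)

section

variable {n : ℕ} [NeZero n]

/-- A bimultiplicative alternating pairing on the roots of unity is trivial. -/
theorem pairing_eq_one (χ : Red.diag R (ZMod n) ⊗ Red.diag R (ZMod n) ⟶ Red.diag R ℤ)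
    (hL : ∀ (T : Over (Spec (CommRingCat.of R))) (x x' y : T ⟶ Red.diag R (ZMod n)),
      lift (x * x') y ≫ χ = (lift x y ≫ χ) * (lift x' y ≫ χ))
    (hR : ∀ (T : Over (Spec (CommRingCat.of R))) (x y y' : T ⟶ Red.diag R (ZMod n)),
      lift x (y * y') ≫ χ = (lift x y ≫ χ) * (lift x y' ≫ χ))
    (hS : ∀ (T : Over (Spec (CommRingCat.of R))) (x : T ⟶ Red.diag R (ZMod n)), lift x x ≫ χ = 1) : χ = 1 := by
  choose v hv using fun (A : Type u) (_ : CommRing A) (_ : Algebra R A) (t : sp R A ⟶ Red.diag R ℤ) => dpt_surjective t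
  let f : ∀ (A : Type u) [CommRing A] [Algebra R A], Rt n A → Rt n A → A := fun A i j x y =>
    v A i j (lift (dpt x) (dpt y) ≫ χ) (Multiplicative.ofAdd 1)
  have vmul : ∀ (A : Type u) [CommRing A] [Algebra R A] (s t : sp R A ⟶ Red.diag R ℤ),
      v A _ _ (s * t) (Multiplicative.ofAdd 1) = v A _ _ s (Multiplicative.ofAdd 1) * v A _ _ t (Multiplicative.ofAdd 1) :=
    fun A _ _ s t => by
      rw [dpt_injective (R := R) (((hv A _ _ (s * t)).trans (congrArg₂ (· * ·) (hv A _ _ s).symm (hv A _ _ t).symm)).trans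
        (dpt_mul _ _).symm)]
      rfl
  have v1 : ∀ (A : Type u) [CommRing A] [Algebra R A], v A _ _ 1 = 1 :=
    fun A _ _ => dpt_injective (R := R) ((hv A _ _ 1).trans dpt_one.symm)
  have key := bichar_eq_one (R := R) f ?_ ?_ ?_ ?_ ?_
  · refine ext_sp fun B _ _ z => ?_
    obtain ⟨x, hx⟩ := dpt_surjective (z ≫ fst _ _)
    obtain ⟨y, hy⟩ := dpt_surjective (z ≫ snd _ _)
    have hz : z = lift (dpt x) (dpt y) := by rw [hx, hy]; ext1 <;> simp
    rw [MonObj.comp_one, hz]
    refine (hv B _ _ _).symm.trans ((congrArg dpt ?_).trans dpt_one)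
    exact MonoidHom.ext_mint ((key B x y).trans (MonoidHom.one_apply _).symm)
  · intro A B _ _ _ _ φ x y
    have h := congrArg (spMap φ ≫ ·) (hv A _ _ (lift (dpt x) (dpt y) ≫ χ))
    simp only [spMap_dpt, ← Category.assoc, comp_lift] at h
    have h' := dpt_injective (R := R) (h.trans (hv B _ _ _).symm)
    exact DFunLike.congr_fun h' (Multiplicative.ofAdd 1)
  · intro A _ _ x x' y
    show v A _ _ _ _ = _
    rw [dpt_mul, hL]
    exact vmul A _ _
  · intro A _ _ x y y'
    show v A _ _ _ _ = _
    rw [dpt_mul, hR]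
    exact vmul A _ _
  · intro A _ _ x
    show v A _ _ _ _ = _
    have h : lift (dpt x) (dpt (1 : Rt n A)) ≫ χ = 1 := by
      have h := hR (sp R A) (dpt x) 1 1
      rw [_root_.one_mul] at h
      rw [dpt_one]
      exact eq_one_of_self_mul h
    rw [h, v1]
    rfl
  · intro A _ _ x
    show v A _ _ _ _ = _
    rw [hS, v1]
    rfl

/-- A central extension of the roots of unity by the multiplicative group is commutative. -/
theorem comm_of_isCentralExt {G : Over (Spec (CommRingCat.of R))} [GrpObj G] {u : Red.diag R ℤ ⟶ G}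
    {v : G ⟶ Red.diag R (ZMod n)} (h : IsCentralExt u v) (T : Over (Spec (CommRingCat.of R))) (g g' : T ⟶ G) :
    g * g' = g' * g := by
  obtain ⟨χ, hχ⟩ := h.exists_pairing
  exact h.comm_of_pairing hχ
    (pairing_eq_one χ (h.pairing_mul_left hχ) (h.pairing_mul_right hχ) (h.pairing_self hχ)) T g g'

end

end Groth.Agent.CentralPair
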