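import Groth.Agent.CentralPair.DiagBridge

/-!
# Maps into the multiplicative group on pairs of points
-/

set_option autoImplicit false

universe u

open CategoryTheory CategoryTheory.Limits AlgebraicGeometry MonoidalCategory CartesianMonoidalCategory MonObj GrpObj
open WithConv Groth.Agent.GrpSchLib.AffineHopf

namespace Groth.Agent.CentralPair

variable {R : Type u} [CommRing R]

/-- The value of a point of the multiplicative group. -/
noncomputable def val {C : Type u} [CommRing C] [Algebra R C] (t : sp R C ⟶ Red.diag R ℤ) : C :=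
  (dpt_surjective t).choose (Multiplicative.ofAdd 1)

theorem val_dpt {C : Type u} [CommRing C] [Algebra R C] (x : Multiplicative ℤ →* C) :
    val (dpt (R := R) x) = x (Multiplicative.ofAdd 1) := by
  rw [val, dpt_injective (R := R) (dpt_surjective (dpt (R := R) x)).choose_spec]

theorem val_injective {C : Type u} [CommRing C] [Algebra R C] {s t : sp R C ⟶ Red.diag R ℤ} (h : val s = val t) :
    s = t := by
  obtain ⟨x, rfl⟩ := dpt_surjective s
  obtain ⟨y, rfl⟩ := dpt_surjective t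
  rw [val_dpt, val_dpt] at h
  rw [MonoidHom.ext_mint h]

theorem val_mul {C : Type u} [CommRing C] [Algebra R C] (s t : sp R C ⟶ Red.diag R ℤ) :
    val (s * t) = val s * val t := by
  obtain ⟨x, rfl⟩ := dpt_surjective s
  obtain ⟨y, rfl⟩ := dpt_surjective t
  rw [← dpt_mul, val_dpt, val_dpt, val_dpt]
  rfl

theorem val_one {C : Type u} [CommRing C] [Algebra R C] : val (1 : sp R C ⟶ Red.diag R ℤ) = 1 := by
  rw [← dpt_one, val_dpt]
  rfl

theorem val_comp {C D : Type u} [CommRing C] [Algebra R C] [CommRing D] [Algebra R D] (φ : C →ₐ[R] D)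
    (t : sp R C ⟶ Red.diag R ℤ) : val (spMap φ ≫ t) = φ (val t) := by
  obtain ⟨x, rfl⟩ := dpt_surjective t
  rw [spMap_dpt, val_dpt, val_dpt]
  rfl

variable {A : Type u} [CommRing A] [Bialgebra R A]

/-- The value of a map into the multiplicative group on a pair of points. -/
noncomputable def fv (χ : sp R A ⊗ sp R A ⟶ Red.diag R ℤ) {C : Type u} [CommRing C] [Algebra R C]
    (φ ψ : A →ₐ[R] C) : C :=
  val (lift (spMap φ) (spMap ψ) ≫ χ)

theorem fv_nat (χ : sp R A ⊗ sp R A ⟶ Red.diag R ℤ) {C D : Type u} [CommRing C] [Algebra R C] [CommRing D]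
    [Algebra R D] (θ : C →ₐ[R] D) (φ ψ : A →ₐ[R] C) : θ (fv χ φ ψ) = fv χ (θ.comp φ) (θ.comp ψ) := by
  rw [fv, fv, ← val_comp, ← Category.assoc, comp_lift, spMap_comp, spMap_comp]

theorem eq_of_fv {χ χ' : sp R A ⊗ sp R A ⟶ Red.diag R ℤ}
    (h : ∀ (C : Type u) [CommRing C] [Algebra R C] (φ ψ : A →ₐ[R] C), fv χ φ ψ = fv χ' φ ψ) : χ = χ' := by
  refine ext_sp fun C _ _ z => ?_
  obtain ⟨φ, hφ⟩ := exists_eq_spMap (z ≫ fst _ _)
  obtain ⟨ψ, hψ⟩ := exists_eq_spMap (z ≫ snd _ _)
  have hz : z = lift (spMap φ) (spMap ψ) := by rw [← hφ, ← hψ]; ext1 <;> simp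
  exact val_injective (hz ▸ h C φ ψ)

theorem fv_one {C : Type u} [CommRing C] [Algebra R C] (φ ψ : A →ₐ[R] C) :
    fv (1 : sp R A ⊗ sp R A ⟶ Red.diag R ℤ) φ ψ = 1 := by
  rw [fv, MonObj.comp_one, val_one]

end Groth.Agent.CentralPair
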