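import Groth.Agent.CentralPair.Transport
import Groth.Agent.CentralPair.Func
import Groth.Agent.CentralPair.Alpha
import Groth.Agent.GrpSchLib.PrimeClassify

/-!
# Central extensions of groups of prime order by the multiplicative group
-/

set_option autoImplicit false

universe u

open CategoryTheory CategoryTheory.Limits AlgebraicGeometry MonoidalCategory CartesianMonoidalCategory MonObj GrpObj
open WithConv Groth.Agent.GrpSchLib.AffineHopf
open scoped TensorProduct

namespace Groth.Agent.CentralPair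

theorem isUnit_of_mul_map {M C : Type*} [Group M] [CommRing C] (f : M → C) (hmul : ∀ a b, f (a * b) = f a * f b)
    (hone : f 1 = 1) (t : M) : IsUnit (f t) :=
  IsUnit.of_mul_eq_one (f t⁻¹) (by rw [← hmul, mul_inv_cancel, hone])

theorem lift_comp_left {k A C : Type u} [CommRing k] [CommRing A] [Algebra k A] [CommRing C] [Algebra k C]
    (φ ψ : A →ₐ[k] C) :
    (Algebra.TensorProduct.lift φ ψ fun _ _ => Commute.all _ _).comp Algebra.TensorProduct.includeLeft = φ :=
  AlgHom.ext fun a => by simp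

theorem lift_comp_right {k A C : Type u} [CommRing k] [CommRing A] [Algebra k A] [CommRing C] [Algebra k C]
    (φ ψ : A →ₐ[k] C) :
    (Algebra.TensorProduct.lift φ ψ fun _ _ => Commute.all _ _).comp Algebra.TensorProduct.includeRight = ψ :=
  AlgHom.ext fun a => by simp

variable {k : Type u} [Field k] {G : Over (Spec (CommRingCat.of k))} [GrpObj G]

section Hopf

variable {A : Type u} [CommRing A] [HopfAlgebra k A] {u : Red.diag k ℤ ⟶ G} {v : G ⟶ sp k A}
  {χ : sp k A ⊗ sp k A ⟶ Red.diag k ℤ}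

theorem fv_mul_left (hL : ∀ (T : Over (Spec (CommRingCat.of k))) (x x' y : T ⟶ sp k A),
      lift (x * x') y ≫ χ = (lift x y ≫ χ) * (lift x' y ≫ χ))
    {C : Type u} [CommRing C] [Algebra k C] (φ φ' ψ : A →ₐ[k] C) :
    fv χ (toConv φ * toConv φ').ofConv ψ = fv χ φ ψ * fv χ φ' ψ := by
  rw [fv, fv, fv, ← spMap_mul, hL, val_mul]

theorem fv_mul_right (hR : ∀ (T : Over (Spec (CommRingCat.of k))) (x y y' : T ⟶ sp k A),
      lift x (y * y') ≫ χ = (lift x y ≫ χ) * (lift x y' ≫ χ))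
    {C : Type u} [CommRing C] [Algebra k C] (φ ψ ψ' : A →ₐ[k] C) :
    fv χ φ (toConv ψ * toConv ψ').ofConv = fv χ φ ψ * fv χ φ ψ' := by
  rw [fv, fv, fv, ← spMap_mul, hR, val_mul]

theorem fv_self (hS : ∀ (T : Over (Spec (CommRingCat.of k))) (x : T ⟶ sp k A), lift x x ≫ χ = 1)
    {C : Type u} [CommRing C] [Algebra k C] (φ : A →ₐ[k] C) : fv χ φ φ = 1 := by
  rw [fv, hS, val_one]

theorem isUnit_fv (χ : sp k A ⊗ sp k A ⟶ Red.diag k ℤ) {C : Type u} [CommRing C] [Algebra k C]
    (φ ψ : A →ₐ[k] C) : IsUnit (fv χ φ ψ) :=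
  isUnit_of_mul_map (val (R := k) (C := C)) val_mul val_one _

/-- A finite group of points separating functions admits no non-trivial alternating pairing when of prime order. -/
theorem pairing_eq_one_of_points {ℓ : ℕ} [Fact ℓ.Prime] [Module.Finite k A]
    (hA : Module.finrank k A = ℓ) (hcard : Nat.card (WithConv (A →ₐ[k] k)) = ℓ)
    (hL : ∀ (T : Over (Spec (CommRingCat.of k))) (x x' y : T ⟶ sp k A),
      lift (x * x') y ≫ χ = (lift x y ≫ χ) * (lift x' y ≫ χ))
    (hR : ∀ (T : Over (Spec (CommRingCat.of k))) (x y y' : T ⟶ sp k A),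
      lift x (y * y') ≫ χ = (lift x y ≫ χ) * (lift x y' ≫ χ))
    (hS : ∀ (T : Over (Spec (CommRingCat.of k))) (x : T ⟶ sp k A), lift x x ≫ χ = 1) : χ = 1 := by
  classical
  let P := WithConv (A →ₐ[k] k)
  haveI : Finite P := Nat.finite_of_card_ne_zero (by rw [hcard]; exact (Fact.out : ℓ.Prime).ne_zero)
  haveI : Fintype P := Fintype.ofFinite P
  have hev := GrpSchLib.points_eval_bijective hcard hA
  haveI : IsCyclic P := isCyclic_of_prime_card hcard
  obtain ⟨a, ha⟩ := IsCyclic.exists_monoid_generator (α := P)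
  have hone : ∀ g h : P, fv χ g.ofConv h.ofConv = 1 := by
    have h1l : ∀ h : P, fv χ (1 : P).ofConv h.ofConv = 1 := fun h => by
      have e := fv_mul_left hL (1 : P).ofConv (1 : P).ofConv h.ofConv
      rw [show (toConv (1 : P).ofConv * toConv (1 : P).ofConv) = (1 : P) from _root_.one_mul _] at e
      exact (isUnit_fv χ _ _).mul_left_cancel (e.symm.trans (_root_.mul_one _).symm)
    have h1r : ∀ h : P, fv χ h.ofConv (1 : P).ofConv = 1 := fun h => by
      have e := fv_mul_right hR h.ofConv (1 : P).ofConv (1 : P).ofConv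
      rw [show (toConv (1 : P).ofConv * toConv (1 : P).ofConv) = (1 : P) from _root_.one_mul _] at e
      exact (isUnit_fv χ _ _).mul_left_cancel (e.symm.trans (_root_.mul_one _).symm)
    intro g h
    obtain ⟨i, rfl⟩ := ha g
    obtain ⟨j, rfl⟩ := ha h
    have hai : ∀ j : ℕ, fv χ a.ofConv (a ^ j).ofConv = 1 := fun j => by
      induction j with
      | zero => rw [pow_zero]; exact h1r a
      | succ j ih =>
        rw [pow_succ]
        exact (fv_mul_right hR _ _ _).trans ((congrArg₂ (· * ·) ih (fv_self hS _)).trans (_root_.one_mul _))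
    induction i with
    | zero => simp only [pow_zero]; exact h1l _
    | succ i ih =>
      simp only [pow_succ]
      exact (fv_mul_left hL _ _ _).trans ((congrArg₂ (· * ·) ih (hai j)).trans (_root_.one_mul _))
  have key : ∀ z : A ⊗[k] A, (∀ g h : P, Algebra.TensorProduct.lift g.ofConv h.ofConv (fun _ _ => Commute.all _ _) z = 0) →
      z = 0 := by
    intro z hz
    let E : A ≃ₗ[k] (P → k) := LinearEquiv.ofBijective
      (LinearMap.pi fun g : P => g.ofConv.toLinearMap) hev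
    apply (TensorProduct.congr E E).injective
    rw [map_zero]
    apply GrpSchLib.constGrp_pair_injective k P
    funext x
    obtain ⟨g, h⟩ := x
    refine Eq.trans ?_ ((hz g h).trans (congrFun (map_zero (ConstGrp.pair k P)) (g, h)).symm)
    clear hz
    induction z using TensorProduct.induction_on with
    | zero => simp only [map_zero]; exact congrFun (map_zero (ConstGrp.pair k P)) (g, h)
    | tmul s t =>
      rw [TensorProduct.congr_tmul, Algebra.TensorProduct.lift_tmul]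
      exact ConstGrp.pair_tmul _ _ _ _ g h
    | add s t hs ht =>
      rw [map_add (TensorProduct.congr E E), map_add]
      exact (congrFun (map_add (ConstGrp.pair k P) _ _) (g, h)).trans (congrArg₂ (· + ·) hs ht)
  have hu : fv χ (Algebra.TensorProduct.includeLeft : A →ₐ[k] A ⊗[k] A) Algebra.TensorProduct.includeRight = 1 := by
    refine sub_eq_zero.1 (key _ fun g h => ?_)
    rw [map_sub, map_one, fv_nat, sub_eq_zero, lift_comp_left,
      lift_comp_right]
    exact hone g h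
  refine eq_of_fv fun C _ _ φ ψ => ?_
  have h := congrArg (Algebra.TensorProduct.lift φ ψ fun _ _ => Commute.all _ _) hu
  rw [fv_nat, map_one, lift_comp_left, lift_comp_right] at h
  rw [h, fv_one]

end Hopf

section Alpha

variable {p : ℕ} [hp : Fact p.Prime] [CharP k p]

/-- A point of `α_p`. -/
noncomputable def apt {C : Type u} [CommRing C] [Algebra k C] (b : C) (hb : b ^ p = 0) : AlphaP.A p k →ₐ[k] C :=
  AlphaP.lift p k b hb

omit hp [CharP k p] in
theorem apt_comp {C D : Type u} [CommRing C] [Algebra k C] [CommRing D] [Algebra k D] (θ : C →ₐ[k] D) (b : C)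
    (hb : b ^ p = 0) (hb' : θ b ^ p = 0) : θ.comp (apt b hb) = apt (θ b) hb' :=
  AlphaP.algHom_ext (by simp [apt])

omit hp [CharP k p] in
theorem apt_congr {C : Type u} [CommRing C] [Algebra k C] {b b' : C} (hb : b ^ p = 0) (hb' : b' ^ p = 0) (e : b = b') :
    apt (k := k) b hb = apt b' hb' := by subst e; rfl

omit hp [CharP k p] in
theorem exists_apt {C : Type u} [CommRing C] [Algebra k C] (φ : AlphaP.A p k →ₐ[k] C) :
    ∃ (b : C) (hb : b ^ p = 0), φ = apt b hb :=
  ⟨φ (AlphaP.x p k), by rw [← map_pow, AlphaP.x_pow, map_zero], AlphaP.algHom_ext (by simp [apt])⟩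

theorem apt_add {C : Type u} [CommRing C] [Algebra k C] (b b' : C) (hb : b ^ p = 0) (hb' : b' ^ p = 0)
    (hs : (b + b') ^ p = 0) : apt (k := k) (b + b') hs =
      WithConv.ofConv (toConv (apt (k := k) b hb) * toConv (apt (k := k) b' hb')) := by
  refine AlphaP.algHom_ext ?_
  rw [apt, AlphaP.lift_x, AlgHom.convMul_apply, AlphaP.comul_x]
  simp [apt]

theorem spMap_apt_zero {C : Type u} [CommRing C] [Algebra k C] (h0 : (0 : C) ^ p = 0) :
    spMap (apt (k := k) (0 : C) h0) = 1 := by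
  have h : spMap (apt (k := k) (0 : C) h0) = spMap (apt (k := k) (0 : C) h0) * spMap (apt (k := k) (0 : C) h0) := by
    rw [spMap_mul, ← apt_add _ _ h0 h0 (by rw [add_zero]; exact h0)]
    congr 1
    exact apt_congr _ _ (add_zero 0).symm
  exact eq_one_of_self_mul h

omit hp [CharP k p] in
theorem sq_pow_eq_zero {C : Type u} [CommRing C] {e : C} (he : e * e = 0) (h2 : 2 ≤ p) : e ^ p = 0 :=
  pow_eq_zero_of_le h2 (by rw [sq, he])

/-- A function of a point of `α_p` invariant under infinitesimal translations is constant. -/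
theorem const_of_shift {C : Type u} [CommRing C] [Algebra k C]
    (g : ∀ (D : Type u) [CommRing D] [Algebra k D] (_ : C →ₐ[k] D) (b : D), b ^ p = 0 → D)
    (hnat : ∀ (D E : Type u) [CommRing D] [Algebra k D] [CommRing E] [Algebra k E] (θ : D →ₐ[k] E) (ρ : C →ₐ[k] D)
      (b : D) (hb : b ^ p = 0) (hb' : θ b ^ p = 0), θ (g D ρ b hb) = g E (θ.comp ρ) (θ b) hb')
    (hinv : ∀ (D : Type u) [CommRing D] [Algebra k D] (ρ : C →ₐ[k] D) (b e : D) (hb : b ^ p = 0)
      (hs : (e + b) ^ p = 0), e * e = 0 → g D ρ (e + b) hs = g D ρ b hb)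
    (b : C) (hb : b ^ p = 0) (h0 : (0 : C) ^ p = 0) : g C (AlgHom.id k C) b hb = g C (AlgHom.id k C) 0 h0 := by
  let : Algebra k (AlphaP.A p C) := ((algebraMap C (AlphaP.A p C)).comp (algebraMap k C)).toAlgebra
  haveI : IsScalarTower k C (AlphaP.A p C) := IsScalarTower.of_algebraMap_eq' rfl
  let a := g (AlphaP.A p C) (IsScalarTower.toAlgHom k C _) (AlphaP.x p C) (AlphaP.x_pow p C)
  let X' : DualNumber (AlphaP.A p C) := TrivSqZeroExt.inl (AlphaP.x p C)
  let ι₀ : AlphaP.A p C →ₐ[k] DualNumber (AlphaP.A p C) := TrivSqZeroExt.inlAlgHom k _ _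
  have hX : X' ^ p = 0 := by
    show ι₀ (AlphaP.x p C) ^ p = 0
    rw [← map_pow, AlphaP.x_pow, map_zero]
  haveI hCp : (p : DualNumber (AlphaP.A p C)) = 0 := AlphaP.natCast_eq_zero p k _
  have hsh : ((DualNumber.eps : DualNumber (AlphaP.A p C)) + X') ^ p = 0 :=
    AlphaP.add_pow_eq_zero p k (Commute.all _ _) (sq_pow_eq_zero DualNumber.eps_mul_eps hp.out.two_le) hX
  let θ : AlphaP.A p C →ₐ[k] DualNumber (AlphaP.A p C) :=
    (AlphaP.lift p C (DualNumber.eps + X') hsh).restrictScalars k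
  have hθx : θ (AlphaP.x p C) = DualNumber.eps + X' := AlphaP.lift_x (DualNumber.eps + X') hsh
  have hθι : θ.comp (IsScalarTower.toAlgHom k C _) = ι₀.comp (IsScalarTower.toAlgHom k C _) :=
    AlgHom.ext fun c => ((AlphaP.lift p C (DualNumber.eps + X') hsh).commutes c).trans rfl
  have gc : ∀ (D : Type u) [CommRing D] [Algebra k D] (ρ : C →ₐ[k] D) (b₁ b₂ : D) (h₁ : b₁ ^ p = 0)
      (h₂ : b₂ ^ p = 0), b₁ = b₂ → g D ρ b₁ h₁ = g D ρ b₂ h₂ := fun D _ _ ρ b₁ b₂ h₁ h₂ e => by subst e; rfl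
  have hθ : θ a = ι₀ a := by
    have e₁ := hnat _ _ θ (IsScalarTower.toAlgHom k C _) (AlphaP.x p C) (AlphaP.x_pow p C) (by rw [hθx]; exact hsh)
    have e₂ := hnat _ _ ι₀ (IsScalarTower.toAlgHom k C _) (AlphaP.x p C) (AlphaP.x_pow p C) hX
    refine e₁.trans (Eq.trans ?_ e₂.symm)
    simp only [hθι]
    exact (gc _ _ _ _ _ hsh hθx).trans
      ((hinv _ (ι₀.comp (IsScalarTower.toAlgHom k C _)) X' DualNumber.eps hX hsh DualNumber.eps_mul_eps).trans
        (gc _ _ _ _ hX _ rfl))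
  obtain ⟨c, hc⟩ := exists_eq_algebraMap_of_shift (p := p) (fun i hi hip => by
    rw [← map_natCast (algebraMap k C)]
    refine (IsUnit.mk0 _ fun e => ?_).map _
    exact absurd (Nat.le_of_dvd (Nat.pos_of_ne_zero hi) ((CharP.cast_eq_zero_iff k p _).1 e)) (not_le.2 hip)) a hsh hθ
  have hval : ∀ (b : C) (hb : b ^ p = 0), g C (AlgHom.id k C) b hb = c := fun b hb => by
    let ev : AlphaP.A p C →ₐ[k] C := (AlphaP.lift p C b hb).restrictScalars k
    have hevx : ev (AlphaP.x p C) = b := AlphaP.lift_x b hb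
    have hev' : ev (AlphaP.x p C) ^ p = 0 := hevx.symm ▸ hb
    have h := hnat _ _ ev (IsScalarTower.toAlgHom k C _) (AlphaP.x p C) (AlphaP.x_pow p C) hev'
    have e1 : ev a = c := by
      rw [hc]
      exact (AlphaP.lift p C b hb).commutes c
    simp only [show ev.comp (IsScalarTower.toAlgHom k C _) = AlgHom.id k C from
      AlgHom.ext fun c => (AlphaP.lift p C b hb).commutes c] at h
    rw [← e1]
    exact (gc C (AlgHom.id k C) b (ev (AlphaP.x p C)) hb hev' hevx.symm).trans h.symm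
  rw [hval, hval]

variable {u : Red.diag k ℤ ⟶ G} {v : G ⟶ sp k (AlphaP.A p k)}
  {χ : sp k (AlphaP.A p k) ⊗ sp k (AlphaP.A p k) ⟶ Red.diag k ℤ}

/-- `α_p` has no non-trivial alternating pairing for odd `p`. -/
theorem pairing_eq_one_alpha (hp2 : p ≠ 2)
    (hL : ∀ (T : Over (Spec (CommRingCat.of k))) (x x' y : T ⟶ sp k (AlphaP.A p k)),
      lift (x * x') y ≫ χ = (lift x y ≫ χ) * (lift x' y ≫ χ))
    (hR : ∀ (T : Over (Spec (CommRingCat.of k))) (x y y' : T ⟶ sp k (AlphaP.A p k)),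
      lift x (y * y') ≫ χ = (lift x y ≫ χ) * (lift x y' ≫ χ))
    (hS : ∀ (T : Over (Spec (CommRingCat.of k))) (x : T ⟶ sp k (AlphaP.A p k)), lift x x ≫ χ = 1) : χ = 1 := by
  let f : ∀ (C : Type u) [CommRing C] [Algebra k C] (a b : C), a ^ p = 0 → b ^ p = 0 → C :=
    fun C _ _ a b ha hb => fv χ (apt a ha) (apt b hb)
  have faddl : ∀ (C : Type u) [CommRing C] [Algebra k C] (a a' b : C) (ha : a ^ p = 0) (ha' : a' ^ p = 0)
      (hb : b ^ p = 0) (hs : (a + a') ^ p = 0), f C (a + a') b hs hb = f C a b ha hb * f C a' b ha' hb :=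
    fun C _ _ a a' b ha ha' hb hs => by
      show fv χ _ _ = _
      rw [apt_add a a' ha ha' hs, fv_mul_left hL]
  have faddr : ∀ (C : Type u) [CommRing C] [Algebra k C] (a b b' : C) (ha : a ^ p = 0) (hb : b ^ p = 0)
      (hb' : b' ^ p = 0) (hs : (b + b') ^ p = 0), f C a (b + b') ha hs = f C a b ha hb * f C a b' ha hb' :=
    fun C _ _ a b b' ha hb hb' hs => by
      show fv χ _ _ = _
      rw [apt_add b b' hb hb' hs, fv_mul_right hR]
  have f0r : ∀ (C : Type u) [CommRing C] [Algebra k C] (a : C) (ha : a ^ p = 0) (h0 : (0 : C) ^ p = 0),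
      f C a 0 ha h0 = 1 := fun C _ _ a ha h0 => by
    have h := hR (sp k C) (spMap (apt a ha)) 1 1
    rw [_root_.one_mul] at h
    show val _ = _
    have h' := eq_one_of_self_mul (G := sp k C ⟶ Red.diag k ℤ) h
    rw [spMap_apt_zero, h', val_one]
  have f0l : ∀ (C : Type u) [CommRing C] [Algebra k C] (a : C) (ha : a ^ p = 0) (h0 : (0 : C) ^ p = 0),
      f C 0 a h0 ha = 1 := fun C _ _ a ha h0 => by
    have h := hL (sp k C) 1 1 (spMap (apt a ha))
    rw [_root_.one_mul] at h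
    show val _ = _
    have h' := eq_one_of_self_mul (G := sp k C ⟶ Red.diag k ℤ) h
    rw [spMap_apt_zero, h', val_one]
  have fnat : ∀ (C D : Type u) [CommRing C] [Algebra k C] [CommRing D] [Algebra k D] (θ : C →ₐ[k] D) (a b : C)
      (ha : a ^ p = 0) (hb : b ^ p = 0) (ha' : θ a ^ p = 0) (hb' : θ b ^ p = 0),
      θ (f C a b ha hb) = f D (θ a) (θ b) ha' hb' := fun C D _ _ _ _ θ a b ha hb ha' hb' => by
    show θ (fv χ _ _) = fv χ _ _
    rw [fv_nat, apt_comp θ a ha ha', apt_comp θ b hb hb']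
  have hskew : ∀ (C : Type u) [CommRing C] [Algebra k C] (a b : C) (ha : a ^ p = 0) (hb : b ^ p = 0),
      f C a b ha hb * f C b a hb ha = 1 := fun C _ _ a b ha hb => by
    have hab : (a + b) ^ p = 0 := AlphaP.add_pow_eq_zero p k (Commute.all _ _) ha hb
    have h : f C (a + b) (a + b) hab hab = 1 := fv_self hS _
    rw [faddl C a b _ ha hb hab hab, faddr C a a b ha ha hb hab, faddr C b a b hb ha hb hab,
      show f C a a ha ha = 1 from fv_self hS _, show f C b b hb hb = 1 from fv_self hS _] at h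
    simpa using h
  have h2 : ∀ {C : Type u} [CommRing C] {e : C}, e * e = 0 → e ^ p = 0 := fun he => sq_pow_eq_zero he hp.out.two_le
  obtain ⟨c, hc⟩ := sq_zero_expansion (k := k) (fun C _ _ e d he hd => f C e d (h2 he) (h2 hd))
    (fun C D _ _ _ _ θ e d he hd he' hd' => fnat C D θ e d (h2 he) (h2 hd) (h2 he') (h2 hd')) 1
    (fun C _ _ d hd => (f0l C d (h2 hd) _).trans (map_one _).symm)
    (fun C _ _ e he => (f0r C e (h2 he) _).trans (map_one _).symm)
  have hc0 : c = 0 := by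
    let U := DualNumber (DualNumber k)
    let e₁ : U := TrivSqZeroExt.inl DualNumber.eps
    let e₂ : U := DualNumber.eps
    have he₁ : e₁ * e₁ = 0 := by
      simp [e₁, U, ← TrivSqZeroExt.inl_mul, DualNumber.eps_mul_eps]
    have he₂ : e₂ * e₂ = 0 := DualNumber.eps_mul_eps
    have h := hskew U e₁ e₂ (h2 he₁) (h2 he₂)
    rw [show f U e₁ e₂ (h2 he₁) (h2 he₂) = _ from hc U e₁ e₂ he₁ he₂,
      show f U e₂ e₁ (h2 he₂) (h2 he₁) = _ from hc U e₂ e₁ he₂ he₁] at h
    have h' := congrArg (fun w : U => w.snd.snd) h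
    have hz : c + c = 0 := by simpa [e₁, e₂, U, TrivSqZeroExt.algebraMap_eq_inl'] using h'
    rw [← two_mul, mul_eq_zero] at hz
    refine hz.resolve_left fun e => hp2 ?_
    have := (CharP.cast_eq_zero_iff k p 2).1 (by exact_mod_cast e)
    exact (Nat.prime_dvd_prime_iff_eq hp.out Nat.prime_two).1 this
  have hinf : ∀ (C : Type u) [CommRing C] [Algebra k C] (e d : C) (he : e * e = 0) (hd : d * d = 0),
      f C e d (h2 he) (h2 hd) = 1 := fun C _ _ e d he hd =>
    (hc C e d he hd).trans (by rw [hc0, map_one, map_zero, zero_mul, zero_mul, add_zero])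
  have hstep : ∀ (C : Type u) [CommRing C] [Algebra k C] (e b : C) (he : e * e = 0) (hb : b ^ p = 0),
      f C e b (h2 he) hb = 1 := fun C _ _ e b he hb => by
    have h := const_of_shift (k := k) (p := p)
      (fun D _ _ ρ b hb => f D (ρ e) b (h2 (by rw [← map_mul, he, map_zero])) hb)
      (fun D E _ _ _ _ θ ρ b hb hb' => fnat D E θ _ _ _ hb _ hb')
      (fun D _ _ ρ b' e' hb' hs he' => by
        have hρ : ρ e * ρ e = 0 := by rw [← map_mul, he, map_zero]
        rw [faddr D _ e' b' _ (h2 he') hb' hs, hinf D _ e' hρ he', _root_.one_mul])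
      b hb (zero_pow hp.out.ne_zero)
    exact h.trans (f0r C e (h2 he) _)
  refine eq_of_fv fun C _ _ φ ψ => ?_
  obtain ⟨a, ha, rfl⟩ := exists_apt φ
  obtain ⟨b, hb, rfl⟩ := exists_apt ψ
  rw [fv_one]
  have h := const_of_shift (k := k) (p := p)
    (fun D _ _ ρ a hD => f D a (ρ b) hD (by rw [← map_pow, hb, map_zero]))
    (fun D E _ _ _ _ θ ρ a ha ha' => fnat D E θ _ _ ha _ ha' _)
    (fun D _ _ ρ a' e' ha' hs he' => by
      rw [faddl D e' a' _ (h2 he') ha' _ hs, hstep D e' (ρ b) he' _, _root_.one_mul])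
    a ha (zero_pow hp.out.ne_zero)
  exact h.trans (f0l C b hb _)

/-- A split central extension of `α_2` is commutative. -/
theorem comm_of_split_alpha (hp2 : p = 2) (h : IsCentralExt u v) (σ : sp k (AlphaP.A p k) ⟶ G) (hσ : σ ≫ v = 𝟙 _)
    (T : Over (Spec (CommRingCat.of k))) (g g' : T ⟶ G) : g * g' = g' * g := by
  haveI := h.hu
  haveI := h.hv
  let K := sp k (AlphaP.A p k)
  obtain ⟨c, hc⟩ := h.ker (K ⊗ K) ((fst K K ≫ σ) * (snd K K ≫ σ) * ((fst K K * snd K K) ≫ σ)⁻¹) (by
    rw [MonObj.mul_comp, MonObj.mul_comp, GrpObj.inv_comp, Category.assoc, Category.assoc, Category.assoc, hσ,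
      Category.comp_id, Category.comp_id, Category.comp_id, mul_inv_cancel])
  have hcT : ∀ (T : Over (Spec (CommRingCat.of k))) (x y : T ⟶ K),
      (lift x y ≫ c) ≫ u = (x ≫ σ) * (y ≫ σ) * ((x * y) ≫ σ)⁻¹ := fun T x y => by
    rw [Category.assoc, hc]
    simp only [MonObj.comp_mul, GrpObj.comp_inv, ← Category.assoc, lift_fst, lift_snd]
  obtain ⟨l, hl⟩ := h.ker (sp k k) ((1 : sp k k ⟶ K) ≫ σ) (by rw [Category.assoc, hσ, Category.comp_id])
  have h1σ : ∀ (C : Type u) [CommRing C] [Algebra k C],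
      (1 : sp k C ⟶ K) ≫ σ = (spMap (Algebra.ofId k C) ≫ l) ≫ u := fun C _ _ => by
    rw [Category.assoc, hl, ← Category.assoc, MonObj.comp_one]
  have hax : ∀ (C : Type u) [CommRing C] [Algebra k C] (x : sp k C ⟶ K),
      lift x 1 ≫ c = spMap (Algebra.ofId k C) ≫ l ∧ lift 1 x ≫ c = spMap (Algebra.ofId k C) ≫ l := by
    intro C _ _ x
    refine ⟨h.inj _ _ _ ?_, h.inj _ _ _ ?_⟩
    · rw [hcT, _root_.mul_one, h1σ, h.central, _root_.mul_assoc, mul_inv_cancel, _root_.mul_one]
    · rw [hcT, _root_.one_mul, h1σ, _root_.mul_assoc, mul_inv_cancel, _root_.mul_one]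
  have h2 : ∀ {C : Type u} [CommRing C] {e : C}, e * e = 0 → e ^ p = 0 := fun he => by rw [hp2, sq, he]
  have h2' : ∀ {C : Type u} [CommRing C] {e : C}, e ^ p = 0 → e * e = 0 := fun he => by rwa [hp2, sq] at he
  obtain ⟨d₀, hd₀⟩ := sq_zero_expansion (k := k) (fun C _ _ e d he hd => fv c (apt e (h2 he)) (apt d (h2 hd)))
    (fun C D _ _ _ _ θ e d he hd he' hd' => by rw [fv_nat, apt_comp θ e _ (h2 he'), apt_comp θ d _ (h2 hd')])
    (val l)
    (fun C _ _ d hd => by rw [fv, spMap_apt_zero, (hax C _).2, val_comp]; rfl)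
    (fun C _ _ e he => by rw [fv, spMap_apt_zero, (hax C _).1, val_comp]; rfl)
  have hsym : lift (snd K K) (fst K K) ≫ c = c := by
    refine eq_of_fv fun C _ _ φ ψ => ?_
    obtain ⟨a, ha, rfl⟩ := exists_apt φ
    obtain ⟨b, hb, rfl⟩ := exists_apt ψ
    have e : fv (lift (snd K K) (fst K K) ≫ c) (apt a ha) (apt b hb) = fv c (apt b hb) (apt a ha) := by
      rw [fv, fv, ← Category.assoc, comp_lift, lift_fst, lift_snd]
    rw [e]
    refine (hd₀ C b a (h2' hb) (h2' ha)).trans (Eq.trans ?_ (hd₀ C a b (h2' ha) (h2' hb)).symm)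
    ring
  have hcomm : ∀ x y : T ⟶ K, (x ≫ σ) * (y ≫ σ) = (y ≫ σ) * (x ≫ σ) := fun x y => by
    have e1 : lift y x ≫ c = lift x y ≫ c := by
      conv_rhs => rw [← hsym, ← Category.assoc, comp_lift, lift_fst, lift_snd]
    have e := congrArg (· ≫ u) e1
    simp only [hcT, h.comm _ y x] at e
    exact (mul_right_cancel e).symm
  obtain ⟨s, hs⟩ := h.ker T (g * ((g ≫ v) ≫ σ)⁻¹) (by
    rw [MonObj.mul_comp, GrpObj.inv_comp, Category.assoc _ σ, hσ, Category.comp_id, mul_inv_cancel])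
  obtain ⟨t, ht⟩ := h.ker T (g' * ((g' ≫ v) ≫ σ)⁻¹) (by
    rw [MonObj.mul_comp, GrpObj.inv_comp, Category.assoc _ σ, hσ, Category.comp_id, mul_inv_cancel])
  rw [show g = (s ≫ u) * ((g ≫ v) ≫ σ) by rw [hs, inv_mul_cancel_right],
    show g' = (t ≫ u) * ((g' ≫ v) ≫ σ) by rw [ht, inv_mul_cancel_right]]
  have cs : ∀ w : T ⟶ G, Commute (s ≫ u) w := fun w => (h.central T w s).symm
  have ct : ∀ w : T ⟶ G, Commute (t ≫ u) w := fun w => (h.central T w t).symm
  exact ((cs _).mul_left ((ct _).symm.mul_right (hcomm _ _))).eq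

end Alpha

/-- A central extension of a group of prime order by the multiplicative group is commutative. -/
theorem comm_of_prime_order [IsAlgClosed k] {A : Type u} [CommRing A] [HopfAlgebra k A] [Module.Finite k A]
    {ℓ : ℕ} (hℓ : ℓ.Prime) (hA : Module.finrank k A = ℓ) {u : Red.diag k ℤ ⟶ G} {v : G ⟶ sp k A}
    (h : IsCentralExt u v)
    (hsplit : ∀ ε : A →ₐ[k] k, IsNilpotent (RingHom.ker ε.toRingHom) → ∃ σ : sp k A ⟶ G, σ ≫ v = 𝟙 _)
    (T : Over (Spec (CommRingCat.of k))) (g g' : T ⟶ G) : g * g' = g' * g := by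
  haveI : Fact ℓ.Prime := ⟨hℓ⟩
  obtain ⟨χ, hχ⟩ := h.exists_pairing
  by_cases hcard : Nat.card (WithConv (A →ₐ[k] k)) = ℓ
  · exact h.comm_of_pairing hχ (pairing_eq_one_of_points hA hcard (h.pairing_mul_left hχ) (h.pairing_mul_right hχ)
      (h.pairing_self hχ)) T g g'
  obtain ⟨y, x, -, -, -, hℓ0⟩ := (GrpSchLib.deriv_or_card_points_of_finrank_prime hℓ hA).resolve_right hcard
  haveI : CharP k ℓ := (CharP.charP_iff_prime_eq_zero hℓ).2 hℓ0
  have hred : ¬ _root_.IsReduced A := fun _ => hcard (GrpSchLib.card_points_eq_finrank_of_isReduced hℓ hA)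
  rcases GrpSchLib.exists_surjective_mu_or_alpha (k := k) (A := A) ℓ hred with ⟨φ, hφ⟩ | ⟨φ, hφ⟩
  · obtain ⟨e⟩ := GrpSchLib.nonempty_bialgEquiv_of_surjective φ hφ (by
      rw [hA, Module.finrank_eq_card_basis (MonoidAlgebra.basis (Multiplicative (ZMod ℓ)) k)]
      simp)
    have h' := h.transport (Iso.refl _) ((spIso e).symm)
    exact comm_of_isCentralExt (R := k) (n := ℓ) h' T g g'
  · obtain ⟨e⟩ := GrpSchLib.nonempty_bialgEquiv_of_surjective φ hφ (by rw [hA, AlphaP.finrank_eq])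
    have h' := h.transport (Iso.refl _) ((spIso e).symm)
    by_cases hp2 : ℓ = 2
    · let ε : A →ₐ[k] k := (AlphaP.counitAlg ℓ k).comp (e : A →ₐ[k] AlphaP.A ℓ k)
      obtain ⟨σ, hσ⟩ := hsplit ε (by
        refine ⟨ℓ, le_bot_iff.1 ?_⟩
        have hle : RingHom.ker ε.toRingHom ≤ Ideal.span {e.symm (AlphaP.x ℓ k)} := fun a ha => by
          obtain ⟨Q, hQ⟩ := AlphaP.mk_surjective ℓ k (e a)
          have h0 : Q.eval 0 = 0 := by
            have ha' : AlphaP.counitAlg ℓ k (e a) = 0 := ha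
            rw [← hQ, ← AlphaP.aeval_x, ← Polynomial.aeval_algHom_apply, AlphaP.counitAlg_x] at ha'
            rw [← Polynomial.coeff_zero_eq_eval_zero]
            simpa [Polynomial.aeval_def] using ha'
          obtain ⟨Q', hQ'⟩ : Polynomial.X ∣ Q :=
            Polynomial.X_dvd_iff.2 (by rwa [Polynomial.coeff_zero_eq_eval_zero])
          refine Ideal.mem_span_singleton.2 ⟨e.symm (AlphaP.mk ℓ k Q'), ?_⟩
          rw [← map_mul, ← AlphaP.mk_X, ← map_mul, ← hQ', hQ]
          exact (e.toAlgEquiv.symm_apply_apply a).symm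
        refine (Ideal.pow_right_mono hle ℓ).trans (le_of_eq ?_)
        rw [Ideal.span_singleton_pow, ← map_pow, AlphaP.x_pow, map_zero]
        exact Ideal.span_singleton_eq_bot.2 rfl)
      let c₀ : sp k A ≅ sp k (AlphaP.A ℓ k) := (Grp.forget _).mapIso (spIso e).symm
      refine comm_of_split_alpha hp2 h' (c₀.inv ≫ σ) ?_ T g g'
      show (c₀.inv ≫ σ) ≫ v ≫ c₀.hom = 𝟙 _
      rw [Category.assoc, ← Category.assoc σ, hσ, Category.id_comp, c₀.inv_hom_id]
    · obtain ⟨χ', hχ'⟩ := h'.exists_pairing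
      exact h'.comm_of_pairing hχ' (pairing_eq_one_alpha hp2 (h'.pairing_mul_left hχ') (h'.pairing_mul_right hχ')
        (h'.pairing_self hχ')) T g g'

end Groth.Agent.CentralPair
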