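import Groth.Agent.CentralPair.Transport
import Groth.Agent.GrpSchLib.AffineHopf
import Mathlib.AlgebraicGeometry.Morphisms.LocalFlatDescent
import Mathlib.AlgebraicGeometry.Morphisms.Smooth
import Mathlib.RingTheory.Smooth.Basic
import Mathlib.RingTheory.Jacobson.Ring

/-!
# Sections of smooth torsors over infinitesimal schemes
-/

set_option autoImplicit false
set_option backward.isDefEq.respectTransparency false
set_option backward.isDefEq.respectTransparency.types false

universe u

open CategoryTheory CategoryTheory.Limits AlgebraicGeometry MonoidalCategory CartesianMonoidalCategory MonObj GrpObj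
open Groth.Agent.GrpSchLib.AffineHopf

namespace Groth.Agent.CentralPair

variable {S : Scheme.{u}} {A G K : Over S}

/-- A pseudo-torsor under a smooth group having a section over a faithfully flat quasi-compact
cover is smooth. -/
theorem smooth_of_section {v : G ⟶ K} {m : G ⊗ A ⟶ G} [Smooth A.hom] (hpb : IsPullback (fst G A) m v v)
    {S' : Scheme.{u}} (r : S' ⟶ K.left) [Surjective r] [Flat r] [QuasiCompact r] (σ : S' ⟶ G.left)
    (hσ : σ ≫ v.left = r) : Smooth v.left := by
  have hL : IsPullback (fst G A).left m.left v.left v.left := hpb.map (Over.forget S)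
  haveI h1 : Smooth (fst G A).left :=
    (inferInstance : Smooth (pullback.fst G.hom A.hom))
  -- pull back along the section
  have hP := ((IsPullback.of_hasPullback σ (fst G A).left).paste_vert hL)
  rw [hσ] at hP
  have h2 : Smooth (pullback.fst σ (fst G A).left) := inferInstance
  exact MorphismProperty.of_isPullback_of_descendsAlong (P := @Smooth)
    (Q := @Surjective ⊓ @Flat ⊓ @QuasiCompact) hP ⟨⟨inferInstance, inferInstance⟩, inferInstance⟩ h2

section Artin

variable {k : Type u} [Field k] {B : Type u} [CommRing B] [Algebra k B]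

theorem eq_ker_of_isPrime (ε : B →ₐ[k] k) (hnil : IsNilpotent (RingHom.ker ε.toRingHom)) (P : Ideal B) [hP : P.IsPrime] :
    P = RingHom.ker ε.toRingHom := by
  have hle : RingHom.ker ε.toRingHom ≤ P := by
    obtain ⟨N, hN⟩ := hnil
    exact Ideal.IsPrime.le_of_pow_le (P := P) (n := N) (le_of_eq hN |>.trans bot_le)
  exact ((RingHom.ker_isMaximal_of_surjective ε.toRingHom fun c => ⟨algebraMap k B c, ε.commutes c⟩).eq_of_le
    hP.ne_top hle).symm

variable [IsAlgClosed k]

/-- A smooth scheme over an infinitesimal scheme over an algebraically closed field has a section. -/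
theorem exists_section_of_smooth (ε : B →ₐ[k] k) (hnil : IsNilpotent (RingHom.ker ε.toRingHom))
    [Algebra.FiniteType k B] {Y : Over (Spec (CommRingCat.of k))} (v : Y ⟶ sp k B) [Smooth v.left] [Nonempty Y.left] :
    ∃ s : sp k B ⟶ Y, s ≫ v = 𝟙 _ := by
  obtain ⟨y⟩ := ‹Nonempty Y.left›
  obtain ⟨V, hV, hyV, -⟩ := exists_isAffineOpen_mem_and_subset (show y ∈ (⊤ : Y.left.Opens) from trivial)
  let j : Spec Γ(Y.left, V) ⟶ Y.left := hV.fromSpec
  haveI : Smooth (j ≫ v.left) := inferInstance
  obtain ⟨φ, hφ⟩ := Spec.map_surjective (R := CommRingCat.of B) (S := Γ(Y.left, V)) (j ≫ v.left)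
  have hsm : φ.hom.Smooth := by
    rw [← HasRingHomProperty.Spec_iff (P := @Smooth), hφ]
    infer_instance
  let := φ.hom.toAlgebra
  let : Algebra k Γ(Y.left, V) := ((algebraMap B Γ(Y.left, V)).comp (algebraMap k B)).toAlgebra
  haveI : IsScalarTower k B Γ(Y.left, V) := IsScalarTower.of_algebraMap_eq' rfl
  haveI hs : Algebra.Smooth B Γ(Y.left, V) := hsm
  haveI : Algebra.FiniteType k Γ(Y.left, V) := Algebra.FiniteType.trans (R := k) (S := B) ‹_› inferInstance
  haveI : Nontrivial Γ(Y.left, V) :=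
    PrimeSpectrum.nontrivial (show PrimeSpectrum Γ(Y.left, V) from hV.isoSpec.hom ⟨y, hyV⟩)
  obtain ⟨M, hM⟩ := Ideal.exists_maximal Γ(Y.left, V)
  let := Ideal.Quotient.field M
  haveI : Module.Finite k (Γ(Y.left, V) ⧸ M) := finite_of_finite_type_of_isJacobsonRing _ _
  let e : k ≃ₐ[k] (Γ(Y.left, V) ⧸ M) := AlgEquiv.ofBijective (Algebra.ofId k _)
    IsAlgClosed.algebraMap_bijective_of_isIntegral
  let g : Γ(Y.left, V) →ₐ[k] k := e.symm.toAlgHom.comp (Ideal.Quotient.mkₐ k M)
  let eB : (B ⧸ RingHom.ker ε.toRingHom) ≃ₐ[k] k :=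
    Ideal.quotientKerAlgEquivOfSurjective (f := ε) fun c => ⟨algebraMap k B c, ε.commutes c⟩
  have hg : ∀ b, g (algebraMap B Γ(Y.left, V) b) = ε b := fun b => by
    let gB : B →ₐ[k] k := g.comp (IsScalarTower.toAlgHom k B Γ(Y.left, V))
    have hker : RingHom.ker gB.toRingHom = RingHom.ker ε.toRingHom :=
      eq_ker_of_isPrime ε hnil _ (hP := RingHom.ker_isPrime _)
    have hmem : b - algebraMap k B (ε b) ∈ RingHom.ker gB.toRingHom := by
      rw [hker, RingHom.mem_ker]
      simp
    have h := (RingHom.mem_ker).1 hmem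
    rw [map_sub, sub_eq_zero] at h
    exact h.trans (gB.commutes _)
  let q : Γ(Y.left, V) →ₐ[B] B ⧸ RingHom.ker ε.toRingHom :=
    { (eB.symm.toAlgHom.comp g).toRingHom with
      commutes' := fun b => by
        show eB.symm (g (algebraMap B Γ(Y.left, V) b)) = _
        rw [hg, AlgEquiv.symm_apply_eq]
        rfl }
  let l := Algebra.FormallySmooth.lift _ hnil q
  refine ⟨Over.homMk (Spec.map (CommRingCat.ofHom l.toRingHom) ≫ j) ?_, Over.OverMorphism.ext ?_⟩
  · rw [← Over.w v]
    rw [Category.assoc, ← Category.assoc j, ← hφ, ← Category.assoc, ← Spec.map_comp]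
    rw [show φ ≫ CommRingCat.ofHom l.toRingHom = 𝟙 _ from CommRingCat.hom_ext (RingHom.ext l.commutes), Spec.map_id]
    exact Category.id_comp _
  · show (Spec.map (CommRingCat.ofHom l.toRingHom) ≫ j) ≫ v.left = _
    rw [Category.assoc, ← hφ, ← Spec.map_comp,
      show φ ≫ CommRingCat.ofHom l.toRingHom = 𝟙 _ from CommRingCat.hom_ext (RingHom.ext l.commutes), Spec.map_id]
    rfl

/-- A smooth torsor over an infinitesimal scheme over an algebraically closed field has a section. -/
theorem exists_section_of_torsor [Algebra.FiniteType k B] (ε : B →ₐ[k] k)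
    (hnil : IsNilpotent (RingHom.ker ε.toRingHom)) {A G : Over (Spec (CommRingCat.of k))}
    [Smooth A.hom] {v : G ⟶ sp k B} {m : G ⊗ A ⟶ G} (hpb : IsPullback (fst G A) m v v)
    {S' : Scheme.{u}} (r : S' ⟶ Spec (CommRingCat.of B)) [Flat r] (x : S') (σ : S' ⟶ G.left) (hσ : σ ≫ v.left = r) :
    ∃ s : sp k B ⟶ G, s ≫ v = 𝟙 _ := by
  have huniq : ∀ z w : Spec (CommRingCat.of B), z = w := fun z w => PrimeSpectrum.ext
    ((eq_ker_of_isPrime ε hnil z.asIdeal (hP := z.isPrime)).trans
      (eq_ker_of_isPrime ε hnil w.asIdeal (hP := w.isPrime)).symm)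
  obtain ⟨W, hW, hxW, -⟩ := exists_isAffineOpen_mem_and_subset (show x ∈ (⊤ : S'.Opens) from trivial)
  haveI : IsAffine W.toScheme := hW
  haveI : Surjective (W.ι ≫ r) := ⟨fun z => ⟨⟨x, hxW⟩, huniq _ _⟩⟩
  haveI : IsAffine (sp k B).left := inferInstanceAs (IsAffine (Spec (CommRingCat.of B)))
  haveI : IsAffineHom (W.ι ≫ r) := isAffineHom_of_isAffine _
  haveI := smooth_of_section hpb (W.ι ≫ r) (W.ι ≫ σ) ((Category.assoc _ _ _).trans (congrArg _ hσ))
  haveI : Nonempty G.left := ⟨σ x⟩
  exact exists_section_of_smooth ε hnil v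

end Artin

end Groth.Agent.CentralPair
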