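import Groth.Agent.CentralPair.Pairing

/-!
# Central extensions: transport, and exact sequences
-/

set_option autoImplicit false

universe u

open CategoryTheory CategoryTheory.Limits AlgebraicGeometry MonoidalCategory CartesianMonoidalCategory MonObj GrpObj

namespace Groth.Agent.CentralPair

open Groth.Agent.BalLib

variable {S : Scheme.{u}} {A G K : Over S} [GrpObj A] [GrpObj G] [GrpObj K] {u : A ⟶ G} {v : G ⟶ K}

theorem isCentralExt_of_isExactSeq (hex : NonAbH1.IsExactSeq Scheme.fppfPrecoverage u v)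
    (hcomm : ∀ (T : Over S) (x y : T ⟶ K), x * y = y * x)
    (hcentral : ∀ (T : Over S) (g : T ⟶ G) (t : T ⟶ A), g * (t ≫ u) = (t ≫ u) * g) : IsCentralExt u v := by
  obtain ⟨hu, hv, huv, hpb, htriv⟩ := hex
  have h3 : (G ◁ u) ≫ μ[G] = fst G A * (snd G A ≫ u) := by
    rw [Hom.mul_def]
    congr 1
  refine ⟨hu, hv, hasLocSec_of_isLocallyTrivialFor v htriv, fun T d hd => ?_, fun T k k' hk => ?_, hcomm, hcentral⟩
  · obtain ⟨z, hz1, hz2⟩ := hpb.exists_lift (1 : T ⟶ G) d (by rw [MonObj.one_comp, hd])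
    refine ⟨z ≫ snd G A, ?_⟩
    rw [h3, MonObj.comp_mul, hz1, _root_.one_mul] at hz2
    rwa [Category.assoc]
  · have h : lift (1 : T ⟶ G) k = lift 1 k' := by
      refine hpb.hom_ext (by simp) ?_
      rw [h3, MonObj.comp_mul, MonObj.comp_mul]
      simp [hk]
    simpa using congrArg (· ≫ snd G A) h

namespace IsCentralExt

theorem transport (h : IsCentralExt u v) {A' K' : Over S} [GrpObj A'] [GrpObj K'] (a : Grp.mk A' ≅ Grp.mk A)
    (c : Grp.mk K ≅ Grp.mk K') : IsCentralExt (a.hom.hom.hom ≫ u) (v ≫ c.hom.hom.hom) := by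
  haveI := h.hu
  haveI := h.hv
  let a₀ : A' ≅ A := (Grp.forget (Over S)).mapIso a
  let c₀ : K ≅ K' := (Grp.forget (Over S)).mapIso c
  have hc1 : ∀ (T : Over S), (1 : T ⟶ K') ≫ c₀.inv = 1 := fun T => by
    haveI : IsMonHom c₀.inv := c.inv.hom.isMonHom_hom
    exact MonObj.one_comp c₀.inv
  refine ⟨inferInstance, inferInstance, ?_, fun T d hd => ?_, fun T k k' hk => ?_, fun T x y => ?_, fun T g t => ?_⟩
  · obtain ⟨R, hR, hsec⟩ := h.sec
    refine ⟨R.pullback c₀.inv.left, Scheme.fppfTopology.pullback_stable _ hR, fun V b hb => ?_⟩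
    obtain ⟨s, hs⟩ := hsec _ hb
    refine ⟨s, ?_⟩
    show s ≫ v.left ≫ c₀.hom.left = b
    rw [← Category.assoc, hs, Category.assoc, ← Over.comp_left, c₀.inv_hom_id, Over.id_left, Category.comp_id]
  · have hd' : d ≫ v = 1 := by
      rw [← cancel_mono c₀.hom, Category.assoc]
      haveI : IsMonHom c₀.hom := c.hom.hom.isMonHom_hom
      rw [MonObj.one_comp c₀.hom]
      exact hd
    obtain ⟨k, hk⟩ := h.ker T d hd'
    refine ⟨k ≫ a₀.inv, ?_⟩
    show (k ≫ a₀.inv) ≫ a₀.hom ≫ u = d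
    simp [hk]
  · have := h.inj T (k ≫ a₀.hom) (k' ≫ a₀.hom) (by
      show (k ≫ a₀.hom) ≫ u = (k' ≫ a₀.hom) ≫ u
      rw [Category.assoc, Category.assoc]
      exact hk)
    exact (cancel_mono a₀.hom).1 this
  · haveI : IsMonHom c₀.hom := c.hom.hom.isMonHom_hom
    have e := congrArg (· ≫ c₀.hom) (h.comm T (x ≫ c₀.inv) (y ≫ c₀.inv))
    simpa [MonObj.mul_comp] using e
  · have := h.central T g (t ≫ a.hom.hom.hom)
    simpa using this

end IsCentralExt

end Groth.Agent.CentralPair
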